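import Mathlib

/-!
General lemmas: a homomorphism to a quotient from a compatibility relation; normal subgroups of order
two are central; the centre of a simple group of composite order; central subgroups of order two inside
the commutator subgroup have no complement (helper12).
-/

set_option autoImplicit false

namespace Cfsg.Agent.Lib.Helper12.U62

/-- a homomorphism to a quotient from a compatibility relation -/
theorem exists_hom_of_compat {G S : Type*} [Group G] [Group S] (H : Subgroup G) (Z : Subgroup S)
    [Z.Normal] (C : G → S → Prop)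
    (hmul : ∀ g g' M M', C g M → C g' M' → C (g * g') (M * M'))
    (hinv : ∀ g M, C g M → C g⁻¹ M⁻¹)
    (huniq : ∀ M, C 1 M → M ∈ Z)
    (hgen : ∀ h ∈ H, ∃ M, C h M) :
    ∃ Θ : H →* S ⧸ Z, ∀ (h : H) (M : S), C (h : G) M → Θ h = QuotientGroup.mk M := by
  classical
  have key : ∀ (g : G) (M M' : S), C g M → C g M' →
      (QuotientGroup.mk M : S ⧸ Z) = QuotientGroup.mk M' := by
    intro g M M' h1 h2
    rw [QuotientGroup.eq]
    apply huniq
    have := hmul _ _ _ _ (hinv g M h1) h2
    rwa [inv_mul_cancel] at this
  let f : H → S ⧸ Z := fun h => QuotientGroup.mk (Classical.choose (hgen h h.2))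
  have hf : ∀ (h : H) (M : S), C (h : G) M → f h = QuotientGroup.mk M := fun h M hM =>
    key _ _ _ (Classical.choose_spec (hgen h h.2)) hM
  refine ⟨MonoidHom.mk' f ?_, hf⟩
  intro a b
  have ha := Classical.choose_spec (hgen a a.2)
  have hb := Classical.choose_spec (hgen b b.2)
  have hab : C ((a * b : H) : G) (Classical.choose (hgen a a.2) * Classical.choose (hgen b b.2)) := by
    rw [Subgroup.coe_mul]
    exact hmul _ _ _ _ ha hb
  rw [hf (a * b) _ hab]
  rfl

/-- a normal subgroup of order two is central -/
theorem le_center_of_normal_card_two {H : Type*} [Group H] (N : Subgroup H) [hN : N.Normal]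
    (h2 : Nat.card N = 2) : N ≤ Subgroup.center H := by
  intro n hn
  rw [Subgroup.mem_center_iff]
  intro g
  by_cases h1 : n = 1
  · subst h1; simp
  · obtain ⟨y, hy, hyu⟩ := (Nat.card_eq_two_iff' (1 : N)).mp h2
    have hconj : g * n * g⁻¹ ∈ N := hN.conj_mem n hn g
    have e1 : (⟨n, hn⟩ : N) = y := hyu _ (fun h => h1 (congrArg Subtype.val h))
    have hne : (⟨g * n * g⁻¹, hconj⟩ : N) ≠ 1 := by
      intro h
      have h3 : g * n * g⁻¹ = 1 := congrArg Subtype.val h
      apply h1
      have : n = g⁻¹ * (g * n * g⁻¹) * g := by group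
      rw [this, h3]; group
    have e2 : (⟨g * n * g⁻¹, hconj⟩ : N) = y := hyu _ hne
    have h4 : g * n * g⁻¹ = n := congrArg Subtype.val (e2.trans e1.symm)
    calc g * n = g * n * g⁻¹ * g := by group
      _ = n * g := by rw [h4]

/-- the centre of a simple group whose order is not a prime is trivial -/
theorem center_eq_bot_of_simple {P : Type*} [Group P] [Finite P] [hs : IsSimpleGroup P]
    (hnp : ¬ (Nat.card P).Prime) : Subgroup.center P = ⊥ := by
  rcases (inferInstance : (Subgroup.center P).Normal).eq_bot_or_eq_top with h | h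
  · exact h
  · exfalso
    apply hnp
    have hcomm : ∀ a b : P, a * b = b * a := by
      intro a b
      have : b ∈ Subgroup.center P := by rw [h]; trivial
      exact Subgroup.mem_center_iff.mp this a
    let _ : CommGroup P := { (inferInstance : Group P) with mul_comm := hcomm }
    exact IsSimpleGroup.prime_card

/-- a central subgroup of order two inside the commutator subgroup has no complement -/
theorem no_complement_of_center_le_commutator {H : Type*} [Group H] [Finite H]
    (hc : Nat.card (Subgroup.center H) = 2) (hz : Subgroup.center H ≤ commutator H)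
    (L : Subgroup H) : ¬ (Subgroup.center H).IsComplement' L := by
  intro hL
  have hidx : L.index = 2 := by rw [hL.index_eq_card, hc]
  have hn : L.Normal := Subgroup.normal_of_index_eq_two hidx
  have hcard : Nat.card (H ⧸ L) = 2 := by rw [← Subgroup.index_eq_card]; exact hidx
  have hprime : Fact (Nat.Prime 2) := ⟨Nat.prime_two⟩
  have hcyc : IsCyclic (H ⧸ L) := isCyclic_of_prime_card hcard
  have hcomm : ∀ x y : H ⧸ L, x * y = y * x := fun x y =>
    (IsCyclic.commGroup (α := H ⧸ L)).mul_comm x y
  have hle : commutator H ≤ L := by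
    rw [commutator_eq_closure, Subgroup.closure_le]
    rintro _ ⟨x, y, rfl⟩
    rw [SetLike.mem_coe, ← QuotientGroup.eq_one_iff, commutatorElement_def]
    simp only [QuotientGroup.mk_mul, QuotientGroup.mk_inv]
    rw [hcomm (x : H ⧸ L) (y : H ⧸ L)]
    group
  have hdis : Disjoint (Subgroup.center H) L := hL.disjoint
  have hbot : Subgroup.center H = ⊥ := by
    rw [eq_bot_iff]
    intro x hx
    exact (Subgroup.disjoint_def.mp hdis) hx (hle (hz hx))
  rw [hbot, Subgroup.card_bot] at hc
  exact absurd hc (by decide)

end Cfsg.Agent.Lib.Helper12.U62
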