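import Cfsg.Agent.Lib.Helper12.U62.ChkDefs

/-! checks of the generators, first part (generated, helper12) -/

set_option autoImplicit false
set_option maxRecDepth 100000

namespace Cfsg.Agent.Lib.Helper12.U62

open Cfsg.Agent.Lib.Helper12.TC Cfsg.Agent.Lib.Helper12.TC.Fi22o3510

theorem hcompat0 : compatK TT [0] (gvs.getD 0 []) = true := by decide +kernel

theorem hcompat1 : compatK TT [2] (gvs.getD 1 []) = true := by decide +kernel

theorem hcompat2 : compatK TT [3] (gvs.getD 2 []) = true := by decide +kernel

end Cfsg.Agent.Lib.Helper12.U62
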