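import Cfsg.Agent.Lib.Helper12.U62.ChkDefs

/-! checks of the generators, third part (generated, helper12) -/

set_option autoImplicit false
set_option maxRecDepth 100000

namespace Cfsg.Agent.Lib.Helper12.U62

open Cfsg.Agent.Lib.Helper12.TC Cfsg.Agent.Lib.Helper12.TC.Fi22o3510

theorem hcompat6 : compatK TT [7] (gvs.getD 6 []) = true := by decide +kernel

theorem hcompat7 : compatK TT [8] (gvs.getD 7 []) = true := by decide +kernel

theorem hcompat8 : compatK TT [0, 1, 2, 3, 4, 7, 0, 1, 2, 3, 4, 7, 0, 1, 2, 3, 4, 7, 0, 1, 2, 3, 4, 7, 0, 1, 2, 3, 4, 7] (gvs.getD 8 []) = true := by decide +kernel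

end Cfsg.Agent.Lib.Helper12.U62
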