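import Cfsg.Agent.Lib.Helper12.U62.ChkDefs

/-! checks of the list of isotropic points (generated, helper12) -/

set_option autoImplicit false
set_option maxRecDepth 100000

namespace Cfsg.Agent.Lib.Helper12.U62

open Cfsg.Agent.Lib.Helper12.TC Cfsg.Agent.Lib.Helper12.TC.Fi22o3510

theorem hvs_ok : allListK gvs (fun vs => allListK vs isoK) = true := by decide +kernel

theorem hgvs1 : gvs.getD 1 [] = [ptL.getD 0 0] := by decide +kernel

theorem hlen : ptL.length = 693 := by decide +kernel

theorem hiso_check : allListK ptL isoK = true := by decide +kernel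

end Cfsg.Agent.Lib.Helper12.U62
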