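import Cfsg.Agent.Lib.Helper12.U62.Data
import Cfsg.Agent.Lib.Helper12.TC.Fi22o3510.Tab
import Cfsg.Agent.Lib.Helper12.TC.Fn.LowerParts

/-!
Checks by evaluation, definitions: the generators of the subgroup `2.U6(2)` of `Fi22` act on an orbit of
693 points as products of unitary transvections act on the isotropic points (helper12).
-/

set_option autoImplicit false
set_option maxRecDepth 100000

namespace Cfsg.Agent.Lib.Helper12.U62

open Cfsg.Agent.Lib.Helper12.TC Cfsg.Agent.Lib.Helper12.TC.Fi22o3510

/-- the check of one point: the word `w` maps the point `2817 + i` to a point `2817 + j` of the orbit, and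
the product of the transvections of `vs` maps the `i`-th isotropic point to the `j`-th -/
def compatOne (TT : ℕ → ℕ → ℕ) (w : List ℕ) (vs : List T6) (i : ℕ) : Bool :=
  Nat.ble 2817 (Fn.applyW TT w (2817 + i)) && (Nat.blt (Fn.applyW TT w (2817 + i)) 3510 &&
    (!(decide (actL vs (ptL.getD i 0) = 0)) &&
      decide (norm6 (actL vs (ptL.getD i 0)) = ptL.getD (Fn.applyW TT w (2817 + i) - 2817) 0)))

/-- the check of all points -/
def compatK (TT : ℕ → ℕ → ℕ) (w : List ℕ) (vs : List T6) : Bool :=
  allBelowK 693 (compatOne TT w vs)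

/-- membership in a list -/
def elemK (l : List T6) (a : T6) : Bool :=
  @List.rec T6 (fun _ => Bool) false (fun b _ ih => cond (decide (a = b)) true ih) l

theorem elemK_iff (l : List T6) (a : T6) : elemK l a = true ↔ a ∈ l := by
  induction l with
  | nil => exact ⟨fun h => Bool.noConfusion h, fun h => absurd h List.not_mem_nil⟩
  | cons b l ih =>
    have e : elemK (b :: l) a = cond (decide (a = b)) true (elemK l a) := rfl
    rw [e, List.mem_cons]
    by_cases hab : a = b
    · simp [hab]
    · simp [hab, ih]

/-- all elements of the field -/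
def allK4 : List K := [k0, k1, k2, k3]

theorem mem_allK4 (x : K) : x ∈ allK4 := by cases x <;> decide

/-- a test on all tuples -/
def allT6 (p : T6 → Bool) : Bool :=
  allK4.all fun a0 => allK4.all fun a1 => allK4.all fun a2 => allK4.all fun a3 => allK4.all fun a4 =>
    allK4.all fun a5 => p (a0, a1, a2, a3, a4, a5)

theorem allT6_spec (p : T6 → Bool) (h : allT6 p = true) (a : T6) : p a = true := by
  obtain ⟨a0, a1, a2, a3, a4, a5⟩ := a
  simp only [allT6, List.all_eq_true] at h
  exact h a0 (mem_allK4 a0) a1 (mem_allK4 a1) a2 (mem_allK4 a2) a3 (mem_allK4 a3) a4 (mem_allK4 a4)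
    a5 (mem_allK4 a5)

/-- a test on all tuples with the first two coordinates given -/
def allT4 (a0 a1 : K) (p : T6 → Bool) : Bool :=
  allK4.all fun a2 => allK4.all fun a3 => allK4.all fun a4 => allK4.all fun a5 =>
    p (a0, a1, a2, a3, a4, a5)

theorem allT4_spec (a0 a1 : K) (p : T6 → Bool) (h : allT4 a0 a1 p = true) (a2 a3 a4 a5 : K) :
    p (a0, a1, a2, a3, a4, a5) = true := by
  simp only [allT4, List.all_eq_true] at h
  exact h a2 (mem_allK4 a2) a3 (mem_allK4 a3) a4 (mem_allK4 a4) a5 (mem_allK4 a5)

/-- a vector is isotropic and not zero -/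
def isoK (a : T6) : Bool := !(decide (a = 0)) && decide (hT a a = 0)

theorem isoK_iff (a : T6) : isoK a = true ↔ a ≠ 0 ∧ hT a a = 0 := by
  unfold isoK
  simp

end Cfsg.Agent.Lib.Helper12.U62
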