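import Cfsg.Agent.Lib.Helper12.U62.ChkDefs

/-! two equalities of words in the permutation representation (generated, helper12) -/

set_option autoImplicit false
set_option maxRecDepth 100000

namespace Cfsg.Agent.Lib.Helper12.U62

open Cfsg.Agent.Lib.Helper12.TC Cfsg.Agent.Lib.Helper12.TC.Fi22o3510

/-- words in the generators of the subgroup: they map the point of the generator `c` to the points of a line -/
def hwL : List (List ℕ) := [[2], [6, 1, 2], [3, 4, 8, 5, 4, 3, 2], [3, 4, 8, 6, 5, 4, 3, 1, 2], [7, 6, 2, 3, 1, 2, 6, 7, 4, 3, 2, 6, 5, 4, 3, 2]]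

/-- a word in the generators of the subgroup as a word in the generators of the group -/
def expandW (l : List ℕ) : List ℕ := l.flatMap (fun i => sw.getD i [])

/-- the conjugate of the generator `c` by a word in the generators of the subgroup -/
def conjW (l : List ℕ) : List ℕ := expandW l ++ 2 :: (expandW l).reverse

/-- the product of the conjugates of `c` for the points of a line -/
def lineW : List ℕ := [3, 2, 3, 7, 2, 3, 2, 3, 2, 7, 4, 5, 0, 1, 2, 3, 4, 7, 0, 1, 2, 3, 4, 7, 0, 1, 2, 3, 4, 7, 0, 1, 2, 3, 4, 7, 0, 1, 2, 3, 4, 7, 6, 5, 4, 3, 2, 3, 4, 5, 6, 7, 4, 3, 2, 1, 0, 7, 4, 3, 2, 1, 0, 7, 4, 3, 2, 1, 0, 7, 4, 3, 2, 1, 0, 7, 4, 3, 2, 1, 0, 5, 4, 4, 5, 0, 1, 2, 3, 4, 7, 0, 1, 2, 3, 4, 7, 0, 1, 2, 3, 4, 7, 0, 1, 2, 3, 4, 7, 0, 1, 2, 3, 4, 7, 7, 6, 5, 4, 2, 3, 2, 3, 2, 4, 5, 6, 7, 7, 4, 3, 2, 1, 0, 7, 4, 3, 2, 1, 0, 7, 4, 3, 2, 1, 0, 7, 4, 3, 2, 1, 0, 7, 4, 3, 2, 1, 0, 5, 4, 8, 7,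 3, 4, 2, 3, 7, 8, 5, 4, 3, 7, 6, 5, 4, 3, 2, 3, 4, 5, 6, 7, 3, 4, 5, 8, 7, 3, 2, 4, 3, 7, 8]

theorem hlineW : lineW = (hwL.map conjW).flatten := by decide +kernel

/-- a power of the product of seven generators -/
def z7W : List ℕ := [2, 3, 4, 5, 6, 7, 8, 2, 3, 4, 5, 6, 7, 8, 2, 3, 4, 5, 6, 7, 8, 2, 3, 4, 5, 6, 7, 8, 2, 3, 4, 5, 6, 7, 8, 2, 3, 4, 5, 6, 7, 8, 2, 3, 4, 5, 6, 7, 8, 2, 3, 4, 5, 6, 7, 8, 2, 3, 4, 5, 6, 7, 8]

theorem hz7_0 : Fn.eqWordsK TT z7W [] 0 1904 = true := by decide +kernel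

theorem hz7_1 : Fn.eqWordsK TT z7W [] 1904 1606 = true := by decide +kernel

theorem hz7 : Fn.WordsEq TT z7W [] 3510 :=
  Fn.wordsEq_step hz7_1 rfl
    (Fn.wordsEq_step hz7_0 rfl
    (Fn.wordsEq_start TT z7W []))

theorem hline_0 : Fn.eqWordsK TT [0] lineW 0 618 = true := by decide +kernel

theorem hline_1 : Fn.eqWordsK TT [0] lineW 618 618 = true := by decide +kernel

theorem hline_2 : Fn.eqWordsK TT [0] lineW 1236 618 = true := by decide +kernel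

theorem hline_3 : Fn.eqWordsK TT [0] lineW 1854 618 = true := by decide +kernel

theorem hline_4 : Fn.eqWordsK TT [0] lineW 2472 618 = true := by decide +kernel

theorem hline_5 : Fn.eqWordsK TT [0] lineW 3090 420 = true := by decide +kernel

theorem hline : Fn.WordsEq TT [0] lineW 3510 :=
  Fn.wordsEq_step hline_5 rfl
    (Fn.wordsEq_step hline_4 rfl
    (Fn.wordsEq_step hline_3 rfl
    (Fn.wordsEq_step hline_2 rfl
    (Fn.wordsEq_step hline_1 rfl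
    (Fn.wordsEq_step hline_0 rfl
    (Fn.wordsEq_start TT [0] lineW))))))

end Cfsg.Agent.Lib.Helper12.U62
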