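import Cfsg.Agent.Lib.Helper12.U62.ChkDefs

/-! the list of isotropic points is complete, first part (generated, helper12) -/

set_option autoImplicit false
set_option maxRecDepth 100000

namespace Cfsg.Agent.Lib.Helper12.U62

open Cfsg.Agent.Lib.Helper12.TC Cfsg.Agent.Lib.Helper12.TC.Fi22o3510

theorem complete_check_0_0 :
    allT4 k0 k0 (fun a => !(isoK a) || elemK ptL (norm6 a)) = true := by decide +kernel

theorem complete_check_0_1 :
    allT4 k0 k1 (fun a => !(isoK a) || elemK ptL (norm6 a)) = true := by decide +kernel

theorem complete_check_0_2 :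
    allT4 k0 k2 (fun a => !(isoK a) || elemK ptL (norm6 a)) = true := by decide +kernel

theorem complete_check_0_3 :
    allT4 k0 k3 (fun a => !(isoK a) || elemK ptL (norm6 a)) = true := by decide +kernel

theorem complete_check_1_0 :
    allT4 k1 k0 (fun a => !(isoK a) || elemK ptL (norm6 a)) = true := by decide +kernel

theorem complete_check_1_1 :
    allT4 k1 k1 (fun a => !(isoK a) || elemK ptL (norm6 a)) = true := by decide +kernel

theorem complete_check_1_2 :
    allT4 k1 k2 (fun a => !(isoK a) || elemK ptL (norm6 a)) = true := by decide +kernel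

theorem complete_check_1_3 :
    allT4 k1 k3 (fun a => !(isoK a) || elemK ptL (norm6 a)) = true := by decide +kernel

end Cfsg.Agent.Lib.Helper12.U62
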