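import Cfsg.Agent.Lib.Helper12.U62.ChkDefs

/-! checks for the class of 3-transpositions of `Fi22` (helper12) -/

set_option autoImplicit false
set_option maxRecDepth 100000

namespace Cfsg.Agent.Lib.Helper12.U62

open Cfsg.Agent.Lib.Helper12.TC Cfsg.Agent.Lib.Helper12.TC.Fi22o3510

/-- the word of the representative of the second orbit -/
def u₂ : List ℕ := [1, 2, 0, 1]

/-- the cube of the product of two transpositions that do not commute -/
def w3a : List ℕ := [0, 1, 0, 1, 0, 1, 0, 1, 0, 1, 0, 1]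

/-- the square of the product of two transpositions that commute -/
def w3b : List ℕ := [0, 1, 2, 0, 1, 0, 1, 0, 2, 1, 0, 1, 2, 0, 1, 0, 1, 0, 2, 1]

theorem hw3b : w3b = (0 :: (u₂ ++ 0 :: u₂.reverse)) ++ (0 :: (u₂ ++ 0 :: u₂.reverse)) := by decide

theorem hpt1 : Nat.beq (TT 1 0) 1 = true := by decide +kernel

theorem hpt2 : Nat.beq (Fn.applyW TT u₂ 0) 2817 = true := by decide +kernel

theorem h3t0_0 : Fn.eqWordsK TT w3a [] 0 3510 = true := by decide +kernel

theorem h3t0 : Fn.WordsEq TT w3a [] 3510 :=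
  Fn.wordsEq_step h3t0_0 rfl (Fn.wordsEq_start TT w3a [])

theorem h3t1_0 : Fn.eqWordsK TT w3b [] 0 3510 = true := by decide +kernel

theorem h3t1 : Fn.WordsEq TT w3b [] 3510 :=
  Fn.wordsEq_step h3t1_0 rfl (Fn.wordsEq_start TT w3b [])

end Cfsg.Agent.Lib.Helper12.U62
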