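import Cfsg.Agent.Lib.Helper12.U62.SUt
import Cfsg.Agent.Lib.Helper12.U62.ChkA
import Cfsg.Agent.Lib.Helper12.U62.ChkB
import Cfsg.Agent.Lib.Helper12.U62.ChkC
import Cfsg.Agent.Lib.Helper12.U62.ChkD
import Cfsg.Agent.Lib.Helper12.U62.ChkF
import Cfsg.Agent.Lib.Helper12.U62.ChkG
import Cfsg.Agent.Lib.Helper12.Ord.Fi22Simple

/-!
The subgroup `2.U6(2)` of `Fi22`: the relation between its elements and unitary matrices given by the
action on an orbit of 693 points and on the isotropic points (helper12).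
-/

set_option autoImplicit false

namespace Cfsg.Agent.Lib.Helper12.U62

open Matrix Cfsg.Spor Cfsg.Agent.Lib.Helper12.TC Cfsg.Agent.Lib.Helper12.TC.Fi22o3510
  Cfsg.Agent.Lib.Helper12.TC.Fi22Pres Cfsg.Agent.Lib.Helper12.Ord
  Cfsg.Agent.Lib.Helper12.Ord.Fi22Simple

/-- the points of the orbit -/
def pt (i : ℕ) : Fin cN := Fn.ptOf hN0 (2817 + i)

theorem pt_val {i : ℕ} (hi : i < 693) : (pt i).val = 2817 + i :=
  Fn.ptOf_val hN0 (by show 2817 + i < 3510; omega)

theorem pt_inj {i j : ℕ} (hi : i < 693) (hj : j < 693) (h : pt i = pt j) : i = j := by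
  have := congrArg Fin.val h
  rw [pt_val hi, pt_val hj] at this
  omega

/-- an element of the group and a unitary matrix act in the same way -/
def Compat (g : PresentedGroup R) (M : ↥SU6) : Prop :=
  ∀ i < 693, ∃ j < 693, rho g (pt i) = pt j ∧
    ∃ c : K, c ≠ 0 ∧ mat M *ᵥ vec6 (ptL.getD i 0) = c • vec6 (ptL.getD j 0)

theorem compat_one : Compat 1 1 := by
  intro i hi
  refine ⟨i, hi, ?_, 1, one_ne_zero, ?_⟩
  · rw [map_one]; rfl
  · rw [mat_one, Matrix.one_mulVec, one_smul]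

theorem compat_mul (g g' : PresentedGroup R) (M M' : ↥SU6) (h : Compat g M) (h' : Compat g' M') :
    Compat (g * g') (M * M') := by
  intro i hi
  obtain ⟨j', hj', e1, c', hc', e2⟩ := h' i hi
  obtain ⟨j, hj, e3, c, hc, e4⟩ := h j' hj'
  refine ⟨j, hj, ?_, c' * c, mul_ne_zero hc' hc, ?_⟩
  · rw [map_mul, Equiv.Perm.mul_apply, e1, e3]
  · rw [mat_mul, ← Matrix.mulVec_mulVec, e2, Matrix.mulVec_smul, e4, smul_smul]

theorem mat_inv_mul (M : ↥SU6) : mat M⁻¹ * mat M = 1 := by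
  rw [← mat_mul, inv_mul_cancel, mat_one]

theorem mat_mul_inv (M : ↥SU6) : mat M * mat M⁻¹ = 1 := by
  rw [← mat_mul, mul_inv_cancel, mat_one]

theorem compat_inv (g : PresentedGroup R) (M : ↥SU6) (h : Compat g M) : Compat g⁻¹ M⁻¹ := by
  classical
  choose f hf using fun (i : Fin 693) => h i.val i.isLt
  let F : Fin 693 → Fin 693 := fun i => ⟨f i, (hf i).1⟩
  have hinj : Function.Injective F := by
    intro i i' hii
    have h1 : f i = f i' := congrArg Fin.val hii
    have h2 : rho g (pt i.val) = rho g (pt i'.val) := by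
      rw [(hf i).2.1, (hf i').2.1, h1]
    exact Fin.ext (pt_inj i.isLt i'.isLt ((rho g).injective h2))
  have hsurj : Function.Surjective F := Finite.injective_iff_surjective.mp hinj
  intro i hi
  obtain ⟨i', hi'⟩ := hsurj ⟨i, hi⟩
  have h1 : f i' = i := congrArg Fin.val hi'
  obtain ⟨_, e1, c, hc, e2⟩ := hf i'
  rw [h1] at e1 e2
  refine ⟨i'.val, i'.isLt, ?_, c⁻¹, inv_ne_zero hc, ?_⟩
  · rw [map_inv, Equiv.Perm.inv_eq_iff_eq, e1]
  · have h3 : vec6 (ptL.getD i 0) = c⁻¹ • (mat M *ᵥ vec6 (ptL.getD i'.val 0)) := by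
      rw [e2, smul_smul, inv_mul_cancel₀ hc, one_smul]
    rw [h3, Matrix.mulVec_smul, Matrix.mulVec_mulVec, mat_inv_mul, Matrix.one_mulVec]

/-- the list of isotropic points is complete -/
theorem complete (a : T6) (ha : a ≠ 0) (hiso : hT a a = 0) : norm6 a ∈ ptL := by
  have h1 : isoK a = true := (isoK_iff a).mpr ⟨ha, hiso⟩
  have key : ∀ (a0 a1 : K), allT4 a0 a1 (fun a => !(isoK a) || elemK ptL (norm6 a)) = true →
      ∀ a2 a3 a4 a5 : K, isoK (a0, a1, a2, a3, a4, a5) = true →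
        norm6 (a0, a1, a2, a3, a4, a5) ∈ ptL := by
    intro a0 a1 h a2 a3 a4 a5 hi
    have h2 := allT4_spec a0 a1 _ h a2 a3 a4 a5
    simp only [hi, Bool.not_true, Bool.false_or] at h2
    exact (elemK_iff _ _).mp h2
  obtain ⟨a0, a1, a2, a3, a4, a5⟩ := a
  cases a0 <;> cases a1
  · exact key _ _ complete_check_0_0 _ _ _ _ h1
  · exact key _ _ complete_check_0_1 _ _ _ _ h1
  · exact key _ _ complete_check_0_2 _ _ _ _ h1
  · exact key _ _ complete_check_0_3 _ _ _ _ h1
  · exact key _ _ complete_check_1_0 _ _ _ _ h1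
  · exact key _ _ complete_check_1_1 _ _ _ _ h1
  · exact key _ _ complete_check_1_2 _ _ _ _ h1
  · exact key _ _ complete_check_1_3 _ _ _ _ h1
  · exact key _ _ complete_check_2_0 _ _ _ _ h1
  · exact key _ _ complete_check_2_1 _ _ _ _ h1
  · exact key _ _ complete_check_2_2 _ _ _ _ h1
  · exact key _ _ complete_check_2_3 _ _ _ _ h1
  · exact key _ _ complete_check_3_0 _ _ _ _ h1
  · exact key _ _ complete_check_3_1 _ _ _ _ h1
  · exact key _ _ complete_check_3_2 _ _ _ _ h1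
  · exact key _ _ complete_check_3_3 _ _ _ _ h1

theorem exists_index (a : T6) (ha : a ≠ 0) (hiso : hT a a = 0) :
    ∃ j < 693, ptL.getD j 0 = norm6 a := by
  obtain ⟨j, hj, e⟩ := List.mem_iff_getElem.mp (complete a ha hiso)
  refine ⟨j, by rw [← hlen]; exact hj, ?_⟩
  rw [List.getD_eq_getElem _ _ hj, e]

theorem vec6_ne_zero (a : T6) (ha : a ≠ 0) : vec6 a ≠ 0 := by
  intro h
  apply ha
  apply vec6_injective
  rw [h, vec6_zero]

/-- an element acting as the identity on the orbit corresponds to central matrices only -/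
theorem compat_uniq (M : ↥SU6) (h : Compat 1 M) : M ∈ Subgroup.center ↥SU6 := by
  have hfix : ∀ i < 693, ∃ c : K, c ≠ 0 ∧
      mat M *ᵥ vec6 (ptL.getD i 0) = c • vec6 (ptL.getD i 0) := by
    intro i hi
    obtain ⟨j, hj, e1, c, hc, e2⟩ := h i hi
    rw [map_one] at e1
    have : i = j := pt_inj hi hj e1
    subst this
    exact ⟨c, hc, e2⟩
  have hgens : {B : ↥SU6 | ∃ a : T6, a ≠ 0 ∧ hT a a = 0 ∧
      mat B = Cfsg.unitaryTransvection 6 2 (vec6 (norm6 a)) 1} ≤ Subgroup.centralizer {M} := by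
    rintro B ⟨a, ha, hiso, hB⟩
    rw [SetLike.mem_coe, Subgroup.mem_centralizer_iff]
    intro M' hM'
    rw [Set.mem_singleton_iff.mp hM']
    obtain ⟨j, hj, e⟩ := exists_index a ha hiso
    obtain ⟨c, hc, e2⟩ := hfix j hj
    apply mat_injective
    rw [mat_mul, mat_mul, hB, transv_mul (mat M) (mat_pres M), ← e, e2, transvection_smul _ _ hc]
  have h2 : (⊤ : Subgroup ↥SU6) ≤ Subgroup.centralizer {M} := by
    rw [← SU6_closure, Subgroup.closure_le]
    exact hgens
  rw [Subgroup.mem_center_iff]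
  intro B
  have h3 := Subgroup.mem_centralizer_iff.mp (h2 (Subgroup.mem_top B)) M rfl
  exact h3.symm

/-- the product of the transvections of a list of isotropic vectors -/
theorem exists_act (vs : List T6) (hvs : allListK vs isoK = true) :
    ∃ M : ↥SU6, ∀ x : T6, mat M *ᵥ vec6 x = vec6 (actL vs x) := by
  induction vs with
  | nil => exact ⟨1, fun x => by rw [mat_one, Matrix.one_mulVec]; rfl⟩
  | cons u vs ih =>
    have h1 := (allListK_iff _ _).mp hvs
    obtain ⟨M, hM⟩ := ih ((allListK_iff _ _).mpr fun w hw => h1 w (List.mem_cons_of_mem _ hw))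
    have hu := (isoK_iff u).mp (h1 u List.mem_cons_self)
    obtain ⟨B, hB⟩ := exists_tv (vec6 u) (vec6_ne_zero u hu.1) (by rw [herm_vec6]; exact hu.2)
    refine ⟨B * M, fun x => ?_⟩
    rw [mat_mul, ← Matrix.mulVec_mulVec, hM, hB, transvection_vec6]
    rfl

/-- from the check by evaluation to the relation -/
theorem compat_of_check (w : List ℕ) (vs : List T6) (hw : ∀ s ∈ w, s < 9)
    (hvs : allListK vs isoK = true) (h : compatK TT w vs = true) :
    ∃ M : ↥SU6, Compat (wprod v w) M ∧ ∀ x : T6, mat M *ᵥ vec6 x = vec6 (actL vs x) := by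
  obtain ⟨M, hM⟩ := exists_act vs hvs
  refine ⟨M, ?_, hM⟩
  intro i hi
  have h1 := (allBelowK_iff 693 _).mp h i hi
  unfold compatOne at h1
  simp only [Bool.and_eq_true, Bool.not_eq_true', decide_eq_false_iff_not, decide_eq_true_eq] at h1
  obtain ⟨h2, h3, h4, h5⟩ := h1
  have h2' : 2817 ≤ Fn.applyW TT w (2817 + i) := Nat.le_of_ble_eq_true h2
  have h3' : Fn.applyW TT w (2817 + i) < 3510 := Nat.le_of_ble_eq_true h3
  refine ⟨Fn.applyW TT w (2817 + i) - 2817, by omega, ?_,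
    lead6 (actL vs (ptL.getD i 0)), lead6_ne_zero _ h4, ?_⟩
  · apply Fin.ext
    rw [Fn.rho_word v rho rho_v w hw, pt_val hi, pt_val (by omega)]
    omega
  · rw [hM, ← h5, ← vec6_smul, ← eq_lead_smul_norm _ h4]

theorem hvs_get (k : ℕ) : allListK (gvs.getD k []) isoK = true := by
  by_cases hk : k < gvs.length
  · rw [List.getD_eq_getElem _ _ hk]
    exact (allListK_iff gvs _).mp hvs_ok _ (List.getElem_mem hk)
  · rw [List.getD_eq_default _ _ (by omega)]
    rfl

/-- every element of the subgroup corresponds to a matrix -/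
theorem exists_compat : ∀ h ∈ Hs, ∃ M : ↥SU6, Compat h M := by
  intro h hh
  rw [hH] at hh
  refine Subgroup.closure_induction (p := fun h _ => ∃ M : ↥SU6, Compat h M) ?_ ?_ ?_ ?_ hh
  · rintro _ ⟨w, hw, rfl⟩
    simp only [sw, List.mem_cons, List.not_mem_nil, or_false] at hw
    rcases hw with rfl | rfl | rfl | rfl | rfl | rfl | rfl | rfl | rfl
    · obtain ⟨M, hM, _⟩ := compat_of_check _ _ (by decide) (hvs_get 0) hcompat0; exact ⟨M, hM⟩
    · obtain ⟨M, hM, _⟩ := compat_of_check _ _ (by decide) (hvs_get 1) hcompat1; exact ⟨M, hM⟩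
    · obtain ⟨M, hM, _⟩ := compat_of_check _ _ (by decide) (hvs_get 2) hcompat2; exact ⟨M, hM⟩
    · obtain ⟨M, hM, _⟩ := compat_of_check _ _ (by decide) (hvs_get 3) hcompat3; exact ⟨M, hM⟩
    · obtain ⟨M, hM, _⟩ := compat_of_check _ _ (by decide) (hvs_get 4) hcompat4; exact ⟨M, hM⟩
    · obtain ⟨M, hM, _⟩ := compat_of_check _ _ (by decide) (hvs_get 5) hcompat5; exact ⟨M, hM⟩
    · obtain ⟨M, hM, _⟩ := compat_of_check _ _ (by decide) (hvs_get 6) hcompat6; exact ⟨M, hM⟩
    · obtain ⟨M, hM, _⟩ := compat_of_check _ _ (by decide) (hvs_get 7) hcompat7; exact ⟨M, hM⟩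
    · obtain ⟨M, hM, _⟩ := compat_of_check _ _ (by decide) (hvs_get 8) hcompat8; exact ⟨M, hM⟩
  · exact ⟨1, compat_one⟩
  · rintro x y _ _ ⟨M, hM⟩ ⟨M', hM'⟩
    exact ⟨M * M', compat_mul _ _ _ _ hM hM'⟩
  · rintro x _ ⟨M, hM⟩
    exact ⟨M⁻¹, compat_inv _ _ hM⟩

end Cfsg.Agent.Lib.Helper12.U62
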