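import Cfsg.Agent.Lib.Helper12.U62.F4Tup

/-!
The isotropic points of the unitary space of dimension six over the field with four elements, in the
order of the points of an orbit of the subgroup `2.U6(2)` of `Fi22`, and the transvections of the
generators of that subgroup: data (generated, helper12).
-/

set_option autoImplicit false

namespace Cfsg.Agent.Lib.Helper12.U62

open Cfsg.Agent.Lib.Lead.F4

/-- an element of the field -/ abbrev k0 : K := F4c.z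
/-- an element of the field -/ abbrev k1 : K := F4c.o
/-- an element of the field -/ abbrev k2 : K := F4c.w
/-- an element of the field -/ abbrev k3 : K := F4c.v

/-- the isotropic points -/
def ptL : List T6 :=
  [(k0, k0, k0, k0, k1, k1), (k0, k0, k0, k0, k1, k3), (k0, k0, k0, k0, k1, k2), (k0, k0, k1, k1, k2, k3),
   (k1, k1, k0, k0, k2, k3), (k0, k0, k1, k1, k3, k2), (k1, k1, k0, k0, k3, k2), (k0, k0, k1, k3, k3, k1),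
   (k1, k1, k1, k1, k3, k2), (k1, k3, k0, k0, k3, k1), (k0, k0, k1, k1, k1, k1), (k0, k0, k1, k3, k1, k3),
   (k1, k1, k1, k1, k2, k3), (k1, k1, k0, k0, k1, k1), (k1, k3, k0, k0, k1, k3), (k0, k0, k1, k2, k1, k2),
   (k1, k1, k3, k2, k3, k2), (k1, k1, k1, k2, k1, k2), (k1, k1, k1, k1, k1, k1), (k1, k3, k2, k2, k1, k3),
   (k1, k2, k2, k2, k1, k2), (k0, k0, k1, k3, k2, k2), (k0, k0, k1, k2, k2, k1), (k1, k1, k3, k2, k2, k3),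
   (k1, k1, k1, k2, k2, k1), (k1, k3, k2, k2, k3, k1), (k1, k3, k0, k0, k2, k2), (k1, k2, k2, k2, k2, k1),
   (k1, k1, k2, k3, k3, k2), (k1, k1, k2, k1, k1, k2), (k1, k1, k3, k2, k1, k1), (k1, k3, k1, k3, k1, k3),
   (k1, k1, k3, k1, k1, k3), (k1, k3, k2, k3, k2, k3), (k1, k3, k2, k2, k2, k2), (k1, k2, k1, k1, k2, k1),
   (k1, k2, k1, k3, k1, k2), (k0, k0, k1, k2, k0, k0), (k0, k0, k1, k2, k3, k3), (k1, k1, k1, k2, k3, k3),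
   (k1, k1, k2, k3, k2, k3), (k1, k1, k2, k1, k2, k1), (k1, k3, k1, k3, k3, k1), (k1, k1, k3, k1, k3, k1),
   (k1, k3, k2, k3, k3, k2), (k1, k2, k1, k1, k1, k2), (k1, k2, k0, k0, k0, k0), (k1, k2, k2, k2, k3, k3),
   (k1, k2, k1, k3, k2, k1), (k1, k1, k2, k3, k1, k1), (k1, k3, k3, k1, k1, k3), (k1, k1, k1, k3, k1, k3),
   (k1, k1, k3, k3, k1, k2), (k1, k3, k3, k2, k2, k3), (k1, k1, k2, k3, k0, k0), (k1, k3, k1, k3, k2, k2),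
   (k1, k1, k3, k1, k2, k2), (k0, k1, k1, k0, k3, k2), (k1, k3, k1, k2, k2, k1), (k1, k0, k1, k2, k3, k0),
   (k1, k2, k3, k3, k0, k0), (k1, k2, k1, k1, k3, k3), (k1, k2, k3, k2, k2, k1), (k1, k2, k0, k2, k0, k3),
   (k1, k2, k3, k1, k1, k2), (k0, k0, k1, k3, k0, k0), (k1, k1, k2, k1, k0, k0), (k1, k1, k2, k1, k3, k3),
   (k1, k3, k2, k3, k1, k1), (k1, k3, k3, k1, k3, k1), (k1, k1, k1, k3, k3, k1), (k1, k1, k3, k3, k2, k1),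
   (k1, k3, k3, k2, k3, k2), (k0, k1, k1, k0, k2, k3), (k1, k3, k1, k2, k1, k2), (k1, k0, k1, k2, k0, k3),
   (k1, k2, k3, k2, k1, k2), (k1, k3, k1, k1, k0, k0), (k1, k2, k1, k3, k3, k3), (k1, k2, k0, k2, k3, k0),
   (k1, k2, k3, k1, k2, k1), (k1, k1, k3, k2, k0, k0), (k1, k3, k3, k1, k2, k2), (k1, k1, k1, k3, k2, k2),
   (k0, k1, k0, k1, k3, k2), (k1, k1, k2, k2, k1, k3), (k1, k3, k2, k1, k2, k1), (k1, k1, k0, k0, k2, k1),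
   (k1, k3, k1, k1, k2, k3), (k1, k0, k2, k1, k3, k0), (k1, k3, k3, k1, k0, k0), (k1, k1, k1, k3, k0, k0),
   (k1, k2, k2, k1, k0, k0), (k0, k1, k1, k0, k1, k1), (k1, k3, k1, k2, k3, k3), (k0, k1, k0, k2, k3, k2),
   (k1, k0, k2, k0, k1, k3), (k0, k1, k3, k1, k2, k0), (k1, k0, k1, k2, k0, k1), (k1, k3, k3, k3, k0, k0),
   (k1, k2, k3, k2, k3, k3), (k1, k2, k1, k0, k0, k3), (k1, k2, k2, k3, k2, k1), (k1, k2, k0, k2, k2, k0),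
   (k1, k2, k2, k0, k0, k3), (k0, k0, k1, k1, k0, k0), (k1, k1, k1, k2, k0, k0), (k1, k1, k3, k3, k0, k0),
   (k1, k3, k3, k2, k0, k0), (k1, k1, k3, k3, k3, k3), (k1, k3, k3, k2, k1, k1), (k1, k2, k3, k1, k1, k1),
   (k0, k1, k0, k1, k2, k3), (k1, k1, k2, k2, k3, k1), (k1, k3, k2, k1, k1, k2), (k1, k1, k0, k0, k1, k2),
   (k1, k3, k1, k1, k3, k2), (k1, k0, k2, k1, k0, k3), (k0, k1, k0, k2, k2, k3), (k1, k0, k2, k0, k3, k1),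
   (k0, k1, k3, k1, k0, k2), (k1, k0, k1, k2, k2, k0), (k1, k2, k1, k0, k3, k0), (k1, k2, k2, k3, k1, k2),
   (k1, k2, k3, k1, k3, k3), (k1, k2, k0, k2, k0, k1), (k1, k2, k2, k0, k3, k0), (k1, k1, k1, k1, k0, k0),
   (k1, k3, k1, k3, k0, k0), (k1, k1, k3, k1, k0, k0), (k1, k2, k1, k2, k0, k0), (k0, k1, k0, k1, k1, k1),
   (k1, k1, k2, k2, k2, k2), (k1, k3, k2, k1, k3, k3), (k0, k1, k3, k0, k3, k2), (k1, k0, k0, k2, k1, k3),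
   (k1, k1, k0, k0, k3, k1), (k1, k3, k3, k3, k2, k1), (k0, k1, k1, k3, k2, k0), (k1, k1, k0, k0, k3, k3),
   (k1, k3, k0, k0, k3, k2), (k1, k0, k3, k3, k3, k0), (k1, k2, k0, k0, k3, k1), (k1, k0, k2, k1, k0, k1),
   (k1, k2, k1, k2, k3, k3), (k0, k1, k0, k1, k0, k0), (k1, k1, k2, k2, k0, k0), (k1, k3, k2, k1, k0, k0),
   (k1, k0, k1, k0, k0, k0), (k0, k1, k0, k2, k1, k1), (k1, k0, k2, k0, k2, k2), (k1, k2, k2, k3, k2, k2),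
   (k0, k1, k3, k1, k0, k1), (k0, k1, k2, k0, k3, k2), (k1, k0, k0, k3, k1, k3), (k1, k2, k1, k0, k1, k0),
   (k0, k1, k3, k1, k0, k3), (k1, k0, k1, k2, k1, k0), (k1, k0, k3, k0, k2, k3), (k1, k2, k2, k3, k3, k3),
   (k1, k2, k1, k0, k2, k0), (k1, k2, k0, k1, k0, k3), (k1, k2, k0, k2, k0, k2), (k1, k2, k2, k0, k2, k0),
   (k0, k1, k0, k3, k1, k2), (k1, k2, k0, k3, k0, k3), (k1, k3, k2, k3, k0, k0), (k1, k3, k1, k1, k1, k1),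
   (k1, k2, k1, k3, k1, k1), (k1, k2, k3, k1, k3, k2), (k0, k1, k3, k0, k2, k3), (k1, k0, k0, k2, k3, k1),
   (k1, k1, k0, k0, k1, k3), (k1, k3, k3, k3, k1, k2), (k0, k1, k1, k3, k0, k2), (k1, k3, k0, k0, k2, k3),
   (k1, k0, k3, k3, k0, k3), (k1, k2, k0, k0, k1, k3), (k1, k0, k2, k1, k2, k0), (k0, k1, k3, k1, k1, k0),
   (k0, k1, k2, k0, k2, k3), (k1, k0, k0, k3, k3, k1), (k1, k2, k1, k0, k0, k1), (k1, k0, k1, k2, k0, k2),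
   (k1, k2, k0, k1, k3, k0), (k1, k2, k0, k2, k1, k0), (k1, k2, k2, k0, k0, k1), (k1, k2, k0, k3, k3, k0),
   (k1, k3, k2, k2, k0, k0), (k1, k2, k2, k1, k3, k3), (k0, k1, k1, k0, k0, k0), (k1, k3, k1, k2, k0, k0),
   (k1, k0, k0, k1, k0, k0), (k0, k1, k3, k0, k1, k1), (k1, k0, k0, k2, k2, k2), (k1, k3, k3, k3, k3, k3),
   (k1, k2, k3, k2, k2, k2), (k0, k1, k1, k2, k1, k0), (k0, k1, k0, k3, k3, k2), (k1, k0, k1, k0, k1, k3),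
   (k1, k2, k0, k1, k1, k0), (k1, k3, k0, k0, k1, k2), (k0, k1, k2, k2, k2, k0), (k1, k2, k3, k3, k3, k2),
   (k0, k1, k1, k3, k0, k3), (k1, k3, k0, k0, k1, k1), (k1, k0, k0, k0, k0, k3), (k1, k2, k2, k2, k1, k3),
   (k1, k0, k3, k3, k0, k1), (k0, k1, k0, k0, k3, k0), (k1, k0, k2, k1, k1, k0), (k1, k0, k0, k3, k2, k3),
   (k1, k2, k1, k2, k2, k1), (k1, k0, k0, k1, k1, k1), (k0, k1, k3, k0, k0, k0), (k1, k0, k0, k2, k0, k0),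
   (k0, k1, k2, k0, k3, k3), (k0, k1, k2, k0, k1, k1), (k1, k0, k0, k3, k2, k2), (k1, k2, k2, k3, k1, k3),
   (k0, k1, k3, k1, k3, k0), (k0, k1, k1, k3, k0, k1), (k1, k0, k3, k0, k1, k3), (k1, k2, k1, k0, k0, k2),
   (k0, k1, k2, k0, k1, k2), (k1, k0, k3, k0, k3, k2), (k1, k0, k0, k1, k2, k3), (k1, k2, k0, k1, k2, k0),
   (k1, k2, k3, k0, k0, k3), (k1, k2, k2, k0, k0, k2), (k0, k1, k0, k3, k2, k1), (k1, k2, k0, k3, k2, k0),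
   (k0, k1, k3, k0, k1, k2), (k1, k0, k2, k3, k0, k1), (k1, k2, k2, k2, k1, k1), (k1, k2, k0, k0, k2, k2),
   (k1, k2, k1, k3, k3, k2), (k1, k2, k3, k1, k2, k3), (k0, k1, k1, k2, k0, k1), (k0, k1, k0, k3, k2, k3),
   (k1, k0, k1, k0, k3, k1), (k1, k2, k0, k1, k0, k1), (k1, k1, k0, k0, k2, k2), (k1, k3, k0, k0, k2, k1),
   (k0, k1, k2, k2, k0, k2), (k1, k2, k3, k3, k2, k3), (k0, k1, k1, k3, k1, k0), (k1, k0, k0, k0, k3, k0),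
   (k1, k2, k2, k2, k3, k1), (k1, k0, k3, k3, k2, k0), (k0, k1, k0, k0, k0, k3), (k1, k0, k2, k1, k0, k2),
   (k1, k0, k3, k0, k3, k1), (k1, k2, k3, k0, k3, k0), (k1, k2, k2, k0, k1, k0), (k1, k2, k0, k3, k0, k1),
   (k1, k0, k2, k3, k1, k0), (k1, k2, k3, k3, k3, k3), (k1, k2, k1, k1, k0, k0), (k1, k2, k2, k1, k2, k1),
   (k1, k0, k1, k0, k1, k1), (k0, k1, k0, k2, k0, k0), (k1, k0, k2, k0, k0, k0), (k1, k0, k3, k0, k0, k0),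
   (k0, k1, k0, k3, k0, k0), (k0, k1, k0, k3, k2, k2), (k0, k1, k0, k3, k1, k1), (k1, k0, k1, k0, k2, k2),
   (k0, k1, k0, k2, k3, k3), (k1, k2, k1, k1, k2, k2), (k1, k2, k3, k3, k1, k1), (k1, k2, k3, k2, k1, k3),
   (k0, k1, k1, k2, k0, k2), (k0, k1, k2, k1, k1, k0), (k1, k0, k2, k3, k2, k0), (k1, k0, k0, k1, k1, k3),
   (k1, k2, k3, k0, k1, k0), (k1, k2, k2, k1, k3, k2), (k1, k2, k0, k1, k0, k2), (k0, k1, k0, k0, k0, k2),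
   (k1, k2, k2, k2, k2, k3), (k0, k1, k2, k2, k0, k3), (k1, k0, k1, k1, k2, k0), (k0, k1, k1, k3, k3, k0),
   (k0, k1, k0, k2, k1, k2), (k1, k2, k0, k0, k1, k1), (k1, k2, k2, k2, k2, k2), (k1, k0, k0, k0, k2, k0),
   (k0, k1, k3, k3, k0, k3), (k1, k2, k1, k3, k1, k3), (k1, k0, k3, k3, k1, k0), (k1, k0, k2, k2, k1, k0),
   (k0, k1, k0, k0, k0, k1), (k1, k0, k0, k0, k1, k0), (k1, k0, k0, k3, k3, k2), (k1, k0, k2, k0, k2, k3),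
   (k1, k2, k1, k2, k1, k2), (k1, k0, k0, k1, k3, k2), (k1, k0, k3, k0, k1, k1), (k0, k1, k0, k3, k3, k3),
   (k0, k1, k2, k0, k2, k1), (k1, k0, k3, k0, k2, k2), (k1, k2, k2, k3, k3, k1), (k0, k1, k2, k2, k0, k1),
   (k1, k0, k1, k0, k2, k3), (k1, k2, k3, k0, k2, k0), (k1, k0, k3, k2, k0, k1), (k1, k2, k0, k3, k0, k2),
   (k0, k1, k3, k0, k2, k1), (k1, k2, k1, k2, k3, k1), (k0, k1, k0, k1, k1, k2), (k1, k0, k2, k3, k3, k0),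
   (k0, k1, k1, k2, k0, k3), (k1, k2, k2, k2, k3, k2), (k1, k3, k0, k0, k3, k3), (k1, k2, k1, k3, k2, k3),
   (k0, k1, k1, k2, k3, k0), (k0, k1, k2, k1, k0, k1), (k1, k0, k2, k3, k0, k2), (k1, k0, k0, k1, k3, k1),
   (k1, k2, k3, k0, k0, k1), (k1, k2, k2, k1, k2, k3), (k0, k1, k0, k0, k2, k0), (k0, k1, k2, k2, k1, k0),
   (k1, k0, k1, k1, k0, k2), (k1, k0, k0, k0, k0, k1), (k0, k1, k3, k3, k3, k0), (k1, k2, k1, k3, k3, k1),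
   (k1, k0, k3, k3, k0, k2), (k1, k0, k3, k2, k1, k0), (k1, k2, k0, k3, k1, k0), (k1, k2, k3, k3, k2, k1),
   (k1, k3, k3, k3, k2, k2), (k1, k2, k3, k2, k0, k0), (k1, k2, k2, k1, k1, k2), (k1, k0, k1, k0, k3, k2),
   (k1, k0, k0, k2, k1, k1), (k0, k1, k3, k0, k3, k3), (k0, k1, k2, k0, k2, k2), (k0, k1, k2, k0, k0, k0),
   (k1, k0, k0, k3, k0, k0), (k1, k0, k0, k3, k3, k3), (k1, k0, k0, k3, k1, k1), (k0, k1, k0, k3, k1, k3),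
   (k0, k1, k3, k0, k2, k2), (k1, k0, k0, k1, k3, k3), (k1, k0, k0, k1, k2, k2), (k0, k1, k1, k0, k3, k3),
   (k1, k2, k2, k1, k1, k1), (k0, k1, k0, k2, k2, k1), (k1, k2, k1, k1, k1, k3), (k1, k3, k2, k2, k1, k1),
   (k1, k2, k3, k2, k3, k1), (k0, k1, k1, k2, k2, k0), (k0, k1, k2, k1, k0, k2), (k1, k3, k2, k3, k1, k2),
   (k1, k0, k2, k3, k0, k3), (k0, k1, k3, k3, k1, k0), (k1, k0, k3, k2, k2, k0), (k1, k2, k1, k2, k3, k2),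
   (k1, k2, k3, k0, k0, k2), (k0, k1, k0, k0, k1, k0), (k0, k1, k2, k2, k3, k0), (k0, k1, k1, k1, k3, k0),
   (k1, k0, k1, k1, k0, k3), (k0, k1, k1, k0, k1, k2), (k1, k2, k0, k0, k3, k2), (k1, k3, k1, k1, k3, k3),
   (k1, k2, k1, k3, k2, k2), (k1, k0, k0, k0, k0, k2), (k1, k0, k2, k2, k0, k2), (k0, k1, k3, k3, k2, k0),
   (k0, k1, k2, k1, k0, k3), (k1, k0, k1, k1, k0, k1), (k1, k2, k3, k1, k1, k3), (k1, k0, k2, k2, k0, k1),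
   (k1, k0, k1, k3, k1, k0), (k0, k1, k1, k1, k1, k0), (k1, k0, k2, k0, k3, k2), (k1, k0, k0, k2, k2, k3),
   (k1, k3, k1, k2, k3, k1), (k1, k2, k2, k1, k3, k1), (k1, k0, k3, k2, k3, k0), (k1, k2, k1, k2, k1, k3),
   (k0, k1, k0, k1, k2, k1), (k0, k1, k2, k3, k3, k0), (k1, k0, k0, k1, k1, k2), (k1, k3, k3, k1, k2, k3),
   (k0, k1, k2, k1, k3, k0), (k1, k2, k3, k1, k3, k1), (k0, k1, k3, k3, k0, k1), (k1, k0, k3, k2, k0, k2),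
   (k1, k2, k1, k2, k2, k3), (k1, k0, k1, k1, k1, k0), (k1, k2, k3, k3, k1, k2), (k1, k2, k0, k0, k1, k2),
   (k1, k3, k3, k3, k1, k3), (k1, k3, k2, k1, k2, k2), (k1, k1, k2, k2, k1, k1), (k1, k2, k2, k3, k1, k1),
   (k1, k2, k2, k3, k0, k0), (k1, k0, k0, k2, k3, k2), (k1, k0, k2, k0, k3, k3), (k1, k0, k2, k0, k1, k1),
   (k0, k1, k0, k1, k3, k3), (k0, k1, k2, k0, k1, k3), (k0, k1, k0, k2, k2, k2), (k1, k0, k3, k0, k3, k3),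
   (k1, k0, k0, k3, k2, k1), (k0, k1, k0, k3, k3, k1), (k0, k1, k3, k0, k1, k3), (k1, k3, k0, k1, k3, k0),
   (k1, k0, k0, k1, k2, k1), (k0, k1, k0, k1, k2, k2), (k1, k0, k1, k0, k3, k3), (k1, k2, k1, k2, k2, k2),
   (k1, k2, k1, k2, k1, k1), (k0, k1, k1, k0, k2, k1), (k1, k3, k1, k3, k1, k1), (k1, k2, k1, k1, k3, k1),
   (k1, k2, k3, k3, k3, k1), (k1, k3, k2, k2, k3, k2), (k1, k1, k1, k1, k3, k3), (k0, k1, k2, k1, k2, k0),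
   (k1, k3, k2, k3, k2, k1), (k0, k1, k3, k3, k0, k2), (k1, k3, k3, k2, k1, k2), (k1, k0, k3, k2, k0, k3),
   (k1, k1, k1, k2, k3, k1), (k1, k3, k3, k1, k3, k2), (k1, k2, k2, k1, k1, k3), (k0, k1, k1, k1, k0, k1),
   (k0, k1, k1, k1, k0, k3), (k1, k0, k1, k1, k3, k0), (k0, k1, k3, k2, k3, k0), (k1, k0, k2, k2, k3, k0),
   (k1, k3, k1, k3, k2, k3), (k1, k2, k0, k0, k2, k3), (k1, k2, k1, k1, k2, k3), (k1, k3, k1, k1, k2, k1),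
   (k1, k3, k3, k2, k3, k3), (k1, k1, k3, k3, k2, k2), (k1, k2, k3, k1, k0, k0), (k1, k2, k3, k1, k2, k2),
   (k1, k0, k2, k2, k2, k0), (k1, k0, k1, k3, k0, k2), (k0, k1, k1, k1, k0, k2), (k1, k0, k1, k3, k0, k1),
   (k1, k0, k3, k1, k1, k0), (k1, k3, k0, k3, k2, k0), (k0, k1, k3, k2, k1, k0), (k1, k3, k1, k2, k1, k3),
   (k1, k3, k2, k1, k3, k1), (k1, k1, k3, k1, k2, k3), (k1, k0, k1, k0, k1, k2), (k0, k1, k2, k3, k0, k3),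
   (k0, k1, k2, k3, k0, k1), (k1, k3, k0, k2, k1, k0), (k1, k0, k3, k0, k1, k2), (k1, k1, k2, k3, k1, k2),
   (k1, k2, k0, k0, k2, k1), (k1, k3, k3, k3, k3, k1), (k1, k3, k1, k1, k3, k1), (k1, k3, k2, k1, k1, k3),
   (k1, k1, k2, k2, k3, k2), (k1, k3, k1, k2, k1, k1), (k1, k3, k1, k2, k2, k2), (k1, k1, k1, k3, k1, k1),
   (k1, k2, k2, k3, k3, k2), (k1, k2, k3, k2, k1, k1), (k1, k0, k3, k1, k0, k1), (k1, k0, k2, k0, k2, k1),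
   (k1, k0, k0, k2, k3, k3), (k0, k1, k1, k0, k2, k2), (k1, k3, k3, k1, k1, k1), (k0, k1, k2, k0, k3, k1),
   (k0, k1, k0, k2, k1, k3), (k1, k3, k3, k0, k3, k0), (k1, k0, k3, k0, k2, k1), (k1, k0, k0, k3, k1, k2),
   (k1, k3, k0, k1, k0, k1), (k0, k1, k3, k0, k3, k1), (k1, k3, k0, k1, k0, k3), (k0, k1, k0, k1, k1, k3),
   (k1, k3, k1, k0, k3, k0), (k1, k0, k1, k0, k2, k1), (k1, k1, k0, k3, k2, k0), (k1, k3, k0, k2, k0, k1),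
   (k1, k3, k3, k1, k3, k3), (k1, k2, k2, k1, k2, k2), (k0, k1, k3, k2, k0, k3), (k1, k3, k1, k3, k3, k2),
   (k1, k1, k3, k2, k3, k3), (k1, k2, k3, k3, k1, k3), (k1, k3, k2, k2, k2, k3), (k1, k3, k3, k3, k2, k3),
   (k1, k1, k1, k1, k2, k1), (k1, k3, k3, k2, k2, k1), (k1, k3, k2, k3, k3, k3), (k1, k1, k1, k2, k1, k3),
   (k0, k1, k1, k1, k2, k0), (k1, k3, k1, k1, k1, k2), (k1, k1, k2, k1, k3, k1), (k1, k1, k2, k3, k2, k1),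
   (k0, k0, k1, k3, k2, k3), (k0, k1, k3, k2, k0, k1), (k1, k0, k2, k2, k0, k3), (k1, k3, k2, k0, k1, k0),
   (k1, k0, k1, k3, k3, k0), (k1, k1, k3, k2, k1, k2), (k1, k2, k1, k1, k3, k2), (k1, k2, k3, k2, k2, k3),
   (k1, k3, k2, k2, k1, k2), (k1, k1, k3, k3, k1, k3), (k1, k3, k2, k3, k2, k2), (k1, k1, k2, k1, k2, k2),
   (k1, k2, k1, k3, k0, k0), (k1, k0, k1, k3, k2, k0), (k1, k0, k3, k1, k0, k2), (k1, k3, k0, k3, k0, k3),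
   (k0, k1, k3, k2, k0, k2), (k1, k3, k0, k3, k0, k2), (k1, k3, k3, k0, k2, k0), (k1, k3, k2, k0, k2, k0),
   (k1, k1, k0, k2, k1, k0), (k0, k1, k2, k3, k1, k0), (k1, k1, k3, k1, k3, k2), (k1, k1, k1, k3, k2, k3),
   (k0, k0, k1, k2, k1, k3), (k1, k0, k0, k2, k1, k2), (k0, k1, k2, k3, k2, k0), (k1, k3, k0, k2, k0, k2),
   (k1, k3, k1, k0, k1, k0), (k1, k1, k0, k1, k3, k0), (k1, k2, k0, k0, k3, k3), (k1, k3, k1, k1, k1, k3),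
   (k1, k1, k2, k2, k2, k3), (k1, k3, k3, k2, k3, k1), (k1, k1, k3, k3, k2, k3), (k1, k3, k3, k0, k0, k2),
   (k1, k1, k1, k3, k3, k2), (k0, k0, k1, k1, k1, k2), (k1, k3, k1, k2, k3, k2), (k1, k3, k2, k1, k1, k1),
   (k1, k1, k3, k1, k3, k3), (k1, k1, k3, k1, k1, k1), (k1, k1, k2, k3, k3, k3), (k1, k2, k2, k3, k2, k3),
   (k1, k2, k3, k2, k3, k2), (k1, k0, k3, k1, k2, k0), (k1, k2, k1, k1, k1, k1), (k1, k0, k3, k1, k3, k0),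
   (k1, k0, k2, k0, k1, k2), (k1, k0, k0, k2, k2, k1), (k1, k3, k3, k0, k0, k1), (k0, k1, k1, k0, k1, k3),
   (k1, k3, k1, k3, k3, k3), (k0, k1, k0, k2, k3, k1), (k1, k3, k3, k0, k0, k3), (k1, k3, k0, k3, k3, k0),
   (k1, k1, k2, k0, k2, k0), (k1, k3, k1, k0, k0, k1), (k1, k3, k0, k1, k1, k0), (k1, k1, k0, k3, k0, k3),
   (k0, k1, k0, k1, k3, k1), (k1, k3, k1, k0, k0, k3), (k1, k3, k0, k1, k2, k0), (k1, k1, k0, k3, k0, k2),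
   (k0, k1, k3, k2, k2, k0), (k1, k3, k0, k2, k3, k0), (k1, k3, k3, k1, k2, k1), (k1, k1, k3, k0, k2, k0),
   (k1, k3, k2, k0, k0, k1), (k1, k1, k0, k1, k0, k3), (k0, k0, k1, k0, k3, k0), (k1, k1, k2, k3, k2, k2),
   (k1, k2, k3, k3, k2, k2), (k1, k1, k3, k2, k2, k1), (k1, k3, k3, k3, k3, k2), (k1, k1, k1, k1, k1, k2),
   (k1, k3, k2, k1, k2, k3), (k1, k1, k2, k2, k1, k2), (k1, k1, k3, k3, k3, k1), (k1, k1, k2, k1, k1, k3),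
   (k1, k3, k3, k2, k2, k2), (k1, k1, k1, k2, k2, k2), (k0, k0, k1, k3, k3, k2), (k1, k3, k2, k2, k2, k1),
   (k0, k0, k1, k2, k3, k1), (k1, k3, k2, k0, k0, k2), (k1, k0, k1, k3, k0, k3), (k1, k3, k0, k3, k1, k0),
   (k1, k1, k1, k0, k3, k0), (k1, k3, k1, k3, k1, k2), (k1, k1, k1, k1, k3, k1), (k1, k3, k2, k3, k1, k3),
   (k1, k1, k1, k2, k1, k1), (k0, k0, k1, k2, k2, k2), (k1, k2, k2, k2, k0, k0), (k1, k3, k2, k0, k0, k3),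
   (k1, k1, k0, k2, k0, k2), (k0, k1, k2, k3, k0, k2), (k1, k1, k0, k2, k0, k1), (k1, k1, k2, k0, k1, k0),
   (k1, k3, k0, k2, k2, k0), (k1, k1, k1, k0, k1, k0), (k0, k0, k0, k1, k0, k3), (k1, k3, k1, k0, k0, k2),
   (k1, k1, k0, k1, k0, k1), (k1, k1, k3, k0, k3, k0), (k1, k3, k0, k0, k0, k0), (k1, k3, k1, k1, k2, k2),
   (k1, k3, k3, k2, k1, k3), (k1, k1, k3, k3, k3, k2), (k0, k0, k1, k1, k2, k1), (k1, k3, k0, k1, k0, k2),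
   (k1, k3, k2, k3, k3, k1), (k1, k1, k2, k1, k2, k3), (k0, k0, k1, k1, k1, k3), (k1, k3, k3, k0, k1, k0),
   (k1, k1, k2, k0, k0, k1), (k1, k3, k1, k2, k2, k3), (k1, k3, k2, k1, k3, k2), (k1, k0, k3, k1, k0, k3),
   (k1, k1, k3, k1, k2, k1), (k1, k3, k3, k3, k1, k1), (k1, k1, k1, k3, k3, k3), (k1, k1, k3, k2, k2, k2),
   (k1, k3, k2, k2, k3, k3), (k0, k1, k1, k0, k3, k1), (k1, k3, k0, k3, k0, k1), (k1, k1, k2, k0, k0, k3),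
   (k1, k3, k2, k0, k3, k0), (k1, k3, k1, k3, k2, k1), (k1, k1, k2, k0, k0, k2), (k1, k1, k0, k2, k2, k0),
   (k1, k1, k3, k0, k0, k3), (k1, k1, k0, k1, k1, k0), (k1, k1, k0, k3, k3, k0), (k0, k0, k1, k0, k0, k1),
   (k1, k3, k0, k2, k0, k3), (k1, k3, k3, k1, k1, k2), (k1, k3, k1, k0, k2, k0), (k1, k1, k3, k0, k0, k2),
   (k1, k1, k0, k3, k1, k0), (k0, k0, k1, k0, k0, k3), (k1, k1, k0, k1, k2, k0), (k1, k1, k2, k3, k1, k3),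
   (k1, k1, k1, k0, k0, k3), (k0, k0, k0, k1, k3, k0), (k0, k0, k0, k1, k2, k0), (k1, k1, k2, k2, k2, k1),
   (k1, k1, k1, k3, k1, k2), (k1, k1, k1, k1, k1, k3), (k1, k1, k2, k1, k1, k1), (k0, k0, k1, k3, k1, k1),
   (k1, k1, k1, k0, k0, k1), (k1, k1, k0, k2, k3, k0), (k1, k1, k3, k2, k3, k1), (k1, k1, k1, k2, k3, k2),
   (k0, k0, k1, k3, k3, k3), (k1, k1, k1, k0, k0, k2), (k1, k1, k3, k0, k0, k1), (k0, k0, k0, k1, k1, k0),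
   (k1, k1, k0, k0, k0, k0), (k1, k1, k3, k3, k1, k1), (k1, k1, k2, k1, k3, k2), (k0, k0, k1, k1, k3, k1),
   (k0, k0, k1, k1, k3, k3), (k1, k1, k0, k3, k0, k1), (k1, k1, k1, k2, k2, k3), (k0, k0, k1, k3, k2, k1),
   (k0, k0, k1, k2, k2, k3), (k0, k0, k1, k1, k2, k2), (k1, k1, k2, k0, k3, k0), (k1, k1, k3, k1, k1, k2),
   (k1, k1, k1, k3, k2, k1), (k1, k1, k2, k3, k3, k1), (k1, k1, k3, k2, k1, k3), (k1, k1, k2, k2, k3, k3),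
   (k1, k1, k1, k1, k2, k2), (k1, k1, k0, k2, k0, k3), (k1, k1, k1, k0, k2, k0), (k1, k1, k0, k1, k0, k2),
   (k0, k0, k0, k1, k0, k1), (k1, k1, k3, k0, k1, k0), (k0, k0, k1, k0, k1, k0), (k0, k0, k0, k1, k0, k2),
   (k0, k0, k1, k0, k2, k0), (k0, k0, k1, k2, k1, k1), (k0, k0, k1, k3, k1, k2), (k0, k0, k1, k2, k3, k2),
   (k0, k0, k1, k0, k0, k2)]

/-- the vectors of the transvections whose product is the image of a generator of the subgroup -/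
def gvs : List (List T6) :=
  [[],
   [(k0, k0, k0, k0, k1, k1)],
   [(k0, k0, k0, k0, k1, k2)],
   [(k0, k0, k1, k1, k1, k1)],
   [(k0, k0, k1, k2, k0, k0)],
   [(k0, k0, k1, k1, k0, k0)],
   [(k1, k1, k0, k0, k1, k1)],
   [(k1, k2, k0, k0, k0, k0)],
   [(k0, k0, k0, k0, k1, k1), (k0, k0, k1, k1, k1, k1), (k1, k1, k0, k0, k1, k1), (k1, k1, k1, k1, k1, k1), (k1, k1, k2, k2, k0, k0)]]

end Cfsg.Agent.Lib.Helper12.U62
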