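import Mathlib
import Cfsg.Prelude.Def_Classical
import Cfsg.Prelude.Def_ClassicalGeometry
import Cfsg.Agent.Lib.Lead.F4c

/-!
The unitary space of dimension six over the field with four elements in coordinates: vectors as tuples,
the hermitian form, unitary transvections acting on tuples, normal forms of vectors (helper12).
-/

set_option autoImplicit false

namespace Cfsg.Agent.Lib.Helper12.U62

open Matrix Cfsg.Agent.Lib.Lead.F4

/-- the field with four elements -/
abbrev K : Type := F4c

/-- the coordinates of a vector -/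
abbrev T6 : Type := K × K × K × K × K × K

instance decEqK2 : DecidableEq (K × K) := inferInstance
instance decEqK3 : DecidableEq (K × K × K) := inferInstance
instance decEqK4 : DecidableEq (K × K × K × K) := inferInstance
instance decEqK5 : DecidableEq (K × K × K × K × K) := inferInstance
instance decEqT6 : DecidableEq T6 := inferInstance

/-- the vector of a tuple -/
def vec6 (a : T6) : Fin 6 → K := ![a.1, a.2.1, a.2.2.1, a.2.2.2.1, a.2.2.2.2.1, a.2.2.2.2.2]

/-- the tuple of a vector -/
def tup6 (u : Fin 6 → K) : T6 := (u 0, u 1, u 2, u 3, u 4, u 5)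

theorem vec6_tup6 (u : Fin 6 → K) : vec6 (tup6 u) = u := by
  funext i
  fin_cases i <;> rfl

theorem tup6_vec6 (a : T6) : tup6 (vec6 a) = a := rfl

theorem vec6_add (a b : T6) : vec6 (a + b) = vec6 a + vec6 b := by
  funext i
  fin_cases i <;> rfl

theorem vec6_smul (s : K) (a : T6) : vec6 (s • a) = s • vec6 a := by
  funext i
  fin_cases i <;> rfl

theorem vec6_zero : vec6 0 = 0 := by
  funext i
  fin_cases i <;> rfl

theorem vec6_injective : Function.Injective vec6 := fun a b h => by
  rw [← tup6_vec6 a, ← tup6_vec6 b, h]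

/-- the hermitian form on tuples -/
def hT (a b : T6) : K :=
  a.1 * (b.1 * b.1) + (a.2.1 * (b.2.1 * b.2.1) + (a.2.2.1 * (b.2.2.1 * b.2.2.1) +
    (a.2.2.2.1 * (b.2.2.2.1 * b.2.2.2.1) + (a.2.2.2.2.1 * (b.2.2.2.2.1 * b.2.2.2.2.1) +
      a.2.2.2.2.2 * (b.2.2.2.2.2 * b.2.2.2.2.2)))))

theorem herm_vec6 (a b : T6) : Cfsg.hermForm 6 K 2 (vec6 a) (vec6 b) = hT a b := by
  simp [Cfsg.hermForm, Fin.sum_univ_six, vec6, hT, pow_two, add_assoc]

/-- the unitary transvection of the vector of `v` on tuples -/
def trT (v x : T6) : T6 := x + hT x v • v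

/-- the action of a list of transvections -/
def actL (vs : List T6) (x : T6) : T6 := vs.foldr trT x

theorem transvection_mulVec {n : ℕ} {F : Type*} [Field F] (q : ℕ) (v x : Fin n → F) (c : F) :
    Cfsg.unitaryTransvection n q v c *ᵥ x = x + (c * Cfsg.hermForm n F q x v) • v := by
  unfold Cfsg.unitaryTransvection
  rw [Matrix.add_mulVec, Matrix.one_mulVec, Matrix.smul_mulVec, Matrix.vecMulVec_mulVec,
    op_smul_eq_smul, smul_smul]
  congr 2
  unfold Cfsg.hermForm dotProduct
  congr 1
  apply Finset.sum_congr rfl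
  intro i _
  rw [mul_comm]

theorem transvection_vec6 (v x : T6) :
    Cfsg.unitaryTransvection 6 2 (vec6 v) 1 *ᵥ vec6 x = vec6 (trT v x) := by
  rw [transvection_mulVec, one_mul, herm_vec6]
  unfold trT
  rw [vec6_add, vec6_smul]

/-- the first coordinate other than zero -/
def lead6 (a : T6) : K :=
  if a.1 ≠ 0 then a.1 else if a.2.1 ≠ 0 then a.2.1 else if a.2.2.1 ≠ 0 then a.2.2.1 else
    if a.2.2.2.1 ≠ 0 then a.2.2.2.1 else if a.2.2.2.2.1 ≠ 0 then a.2.2.2.2.1 else a.2.2.2.2.2

/-- the normal form of a vector: the first coordinate other than zero becomes one -/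
def norm6 (a : T6) : T6 := (lead6 a)⁻¹ • a

theorem lead6_ne_zero (a : T6) (ha : a ≠ 0) : lead6 a ≠ 0 := by
  obtain ⟨a0, a1, a2, a3, a4, a5⟩ := a
  unfold lead6
  simp only
  split_ifs with h0 h1 h2 h3 h4
  · exact h0
  · exact h1
  · exact h2
  · exact h3
  · exact h4
  · intro h5
    apply ha
    simp only [not_not] at h0 h1 h2 h3 h4
    rw [h0, h1, h2, h3, h4, h5]
    rfl

theorem eq_lead_smul_norm (a : T6) (ha : a ≠ 0) : a = lead6 a • norm6 a := by
  unfold norm6
  rw [smul_smul, mul_inv_cancel₀ (lead6_ne_zero a ha), one_smul]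

theorem cube_eq_one (c : K) (hc : c ≠ 0) : c * c * c = 1 := by
  revert c; decide

theorem sq_mul_self (c : K) (hc : c ≠ 0) : c ^ (2 + 1) = 1 := by
  rw [pow_succ, pow_two]; exact cube_eq_one c hc

/-- scaling the vector does not change the transvection -/
theorem transvection_smul {n : ℕ} (v : Fin n → K) (c : K) (hc : c ≠ 0) :
    Cfsg.unitaryTransvection n 2 (c • v) 1 = Cfsg.unitaryTransvection n 2 v 1 := by
  unfold Cfsg.unitaryTransvection
  congr 2
  ext i j
  simp only [Matrix.vecMulVec_apply, Pi.smul_apply, smul_eq_mul]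
  have := cube_eq_one c hc
  calc c * v i * (c * v j) ^ 2 = (c * c * c) * (v i * v j ^ 2) := by ring
    _ = v i * v j ^ 2 := by rw [this, one_mul]

end Cfsg.Agent.Lib.Helper12.U62
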