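import Cfsg.Agent.Lib.Helper12.U62.Compat
import Cfsg.Agent.Lib.Helper12.U62.ChkE
import Cfsg.Agent.Lib.Helper12.Ord.Words
import Cfsg.Agent.Lib.Helper12.Ord.Perfect

/-!
The subgroup `2.U6(2)` of `Fi22` is a double cover of `PSU 6 K 2` that does not split (helper12).
-/

set_option autoImplicit false

namespace Cfsg.Agent.Lib.Helper12.U62

open Matrix Cfsg.Spor Cfsg.Agent.Lib.Helper12.TC Cfsg.Agent.Lib.Helper12.TC.Fi22o3510
  Cfsg.Agent.Lib.Helper12.TC.Fi22Pres Cfsg.Agent.Lib.Helper12.Ord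
  Cfsg.Agent.Lib.Helper12.Ord.Fi22Simple

/-- the homomorphism to the projective group -/
theorem exists_theta : ∃ Θ : ↥Hs →* Cfsg.PSU 6 K 2,
    ∀ (h : ↥Hs) (M : ↥SU6), Compat (h : PresentedGroup R) M → Θ h = QuotientGroup.mk M :=
  exists_hom_of_compat Hs (Subgroup.center ↥SU6) Compat compat_mul compat_inv compat_uniq
    exists_compat

/-- the subgroup is transitive on the orbit -/
theorem exists_move (j : ℕ) (hj : j < 693) : ∃ h ∈ Hs, rho h (pt 0) = pt j := by
  obtain ⟨Φ, hΦ⟩ := rho_equiv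
  have horb2 := Fn.orbit_image Hs v rho rho_v hH Φ hN0 hΦ hsub (lo := 2817) (hi := 3510)
    (by decide) (by decide) horbi1 horbc1
  have hact : ∀ (γ : PresentedGroup R) (q : PresentedGroup R ⧸ Hs), Φ (γ • q) = rho γ (Φ q) := by
    intro γ q
    induction q using QuotientGroup.induction_on with
    | H δ =>
      have : γ • (δ : PresentedGroup R ⧸ Hs) = ((γ * δ : PresentedGroup R) : PresentedGroup R ⧸ Hs) :=
        rfl
      rw [this, hΦ, hΦ, map_mul, Equiv.Perm.mul_apply]
  have hmem : pt j ∈ {i : Fin cN | 2817 ≤ i.val ∧ i.val < 3510} := by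
    show 2817 ≤ (pt j).val ∧ (pt j).val < 3510
    rw [pt_val hj]
    omega
  rw [← horb2] at hmem
  obtain ⟨q, ⟨⟨h, hh⟩, rfl⟩, hq⟩ := hmem
  refine ⟨h, hh, ?_⟩
  have h0 : pt 0 = ⟨2817, by decide⟩ := Fin.ext (pt_val (by decide))
  have h1 : Φ ((h : PresentedGroup R) • Φ.symm ⟨2817, by decide⟩) = pt j := hq
  rw [hact, Equiv.apply_symm_apply] at h1
  rw [h0]
  exact h1

theorem v2_mem : v 2 ∈ Hs := by
  rw [hH]
  exact Subgroup.subset_closure ⟨[2], by decide, by rw [wprod_cons, wprod_nil, mul_one]⟩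

/-- the generator `c` corresponds to the transvection of the first point -/
theorem compat_c : ∃ B0 : ↥SU6,
    mat B0 = Cfsg.unitaryTransvection 6 2 (vec6 (ptL.getD 0 0)) 1 ∧ Compat (v 2) B0 := by
  obtain ⟨M, hM, hact⟩ := compat_of_check [2] (gvs.getD 1 []) (by decide) (hvs_get 1) hcompat1
  rw [wprod_cons, wprod_nil, mul_one] at hM
  refine ⟨M, ?_, hM⟩
  rw [Matrix.ext_iff_mulVec]
  intro u
  rw [← vec6_tup6 u, hact, hgvs1, transvection_vec6]
  rfl

theorem theta_surjective (Θ : ↥Hs →* Cfsg.PSU 6 K 2)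
    (hΘ : ∀ (h : ↥Hs) (M : ↥SU6), Compat (h : PresentedGroup R) M → Θ h = QuotientGroup.mk M) :
    Function.Surjective Θ := by
  obtain ⟨B0, hB0, hC0⟩ := compat_c
  have hgens : {B : ↥SU6 | ∃ a : T6, a ≠ 0 ∧ hT a a = 0 ∧
      mat B = Cfsg.unitaryTransvection 6 2 (vec6 (norm6 a)) 1} ≤
      (Θ.range).comap (QuotientGroup.mk' (Subgroup.center ↥SU6)) := by
    rintro B ⟨a, ha, hiso, hB⟩
    obtain ⟨j, hj, e⟩ := exists_index a ha hiso
    obtain ⟨h, hh, hmove⟩ := exists_move j hj
    obtain ⟨M, hM⟩ := exists_compat h hh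
    obtain ⟨j', hj', e1, c, hc, e2⟩ := hM 0 (by decide)
    have hjj : j' = j := pt_inj hj' hj (e1.symm.trans hmove)
    subst hjj
    have hBeq : B = M * B0 * M⁻¹ := by
      apply mat_injective
      rw [mat_mul, mat_mul, hB0, transv_mul (mat M) (mat_pres M), e2, transvection_smul _ _ hc, e,
        mul_assoc, mat_mul_inv, mul_one, hB]
    show QuotientGroup.mk' _ B ∈ Θ.range
    refine ⟨⟨h, hh⟩ * ⟨v 2, v2_mem⟩ * ⟨h, hh⟩⁻¹, ?_⟩
    rw [hBeq]
    apply hΘ
    exact compat_mul _ _ _ _ (compat_mul _ _ _ _ hM hC0) (compat_inv _ _ hM)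
  have htop : (Θ.range).comap (QuotientGroup.mk' (Subgroup.center ↥SU6)) = ⊤ := by
    rw [eq_top_iff, ← SU6_closure, Subgroup.closure_le]
    exact hgens
  intro q
  obtain ⟨B, rfl⟩ := QuotientGroup.mk_surjective q
  have hB : B ∈ (Θ.range).comap (QuotientGroup.mk' (Subgroup.center ↥SU6)) := by
    rw [htop]; trivial
  exact hB

instance finite_G : Finite (PresentedGroup R) := Fi22Order.finite

theorem card_Hs : Nat.card ↥Hs = 18393661440 := by
  have h1 := Subgroup.card_mul_index Hs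
  have h2 : Nat.card (PresentedGroup R) = 64561751654400 := Fi22Order.card_eq
  have h3 : Hs.index = 3510 := rho_index
  rw [h2, h3] at h1
  generalize Nat.card ↥Hs = n at h1 ⊢
  omega

theorem hsqv : ∀ s, v s * v s = 1 := fun s => hsq (gen s)

theorem gen_word_mem (i : ℕ) : wprod v (sw.getD i []) ∈ Hs := by
  by_cases hi : i < sw.length
  · rw [List.getD_eq_getElem _ _ hi, hH]
    exact Subgroup.subset_closure ⟨_, List.getElem_mem hi, rfl⟩
  · rw [List.getD_eq_default _ _ (by omega), wprod_nil]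
    exact Subgroup.one_mem _

theorem expand_mem (l : List ℕ) : wprod v (expandW l) ∈ Hs := by
  induction l with
  | nil => exact Subgroup.one_mem _
  | cons i l ih =>
    have : expandW (i :: l) = sw.getD i [] ++ expandW l := by
      unfold expandW
      rw [List.flatMap_cons]
    rw [this, wprod_append]
    exact Subgroup.mul_mem _ (gen_word_mem i) ih

theorem v_mem_of_mem_sw (k : ℕ) (hk : [k] ∈ sw) : v k ∈ Hs := by
  rw [hH]
  exact Subgroup.subset_closure ⟨[k], hk, by rw [wprod_cons, wprod_nil, mul_one]⟩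

theorem v0_mem : v 0 ∈ Hs := v_mem_of_mem_sw 0 (by decide)

theorem hmove0 : TT 0 1 ≠ 1 := by decide +kernel

theorem v0_ne_one : v 0 ≠ 1 := by
  intro h
  have h1 := rho_v 0 (by decide) ⟨1, by decide⟩
  rw [h, map_one] at h1
  exact hmove0 h1.symm

theorem v0_eq_line : v 0 = wprod v lineW := by
  have h1 := Fn.rho_wprod_eq rho TT v 9 rho_v (w₁ := [0]) (w₂ := lineW) (by decide) (by decide) hline
  have h2 := Fi22Order.rho_injective h1
  rw [wprod_cons, wprod_nil, mul_one] at h2
  exact h2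

theorem z7_eq_one : wprod v z7W = 1 := by
  have h1 := Fn.rho_wprod_eq rho TT v 9 rho_v (w₁ := z7W) (w₂ := []) (by decide) (by decide) hz7
  exact Fi22Order.rho_injective h1

/-- the generators of the subgroup as elements of it -/
noncomputable def xs (k : ℕ) : ↥Hs := by
  classical
  exact if h : v k ∈ Hs then ⟨v k, h⟩ else 1

theorem xs_val {k : ℕ} (h : v k ∈ Hs) : ((xs k : ↥Hs) : PresentedGroup R) = v k := by
  unfold xs
  rw [dif_pos h]

theorem xs_wprod (l : List ℕ) (hl : ∀ k ∈ l, v k ∈ Hs) :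
    ((wprod xs l : ↥Hs) : PresentedGroup R) = wprod v l := by
  induction l with
  | nil => rfl
  | cons k l ih =>
    rw [wprod_cons, wprod_cons, Subgroup.coe_mul, xs_val (hl k List.mem_cons_self),
      ih (fun j hj => hl j (List.mem_cons_of_mem _ hj))]

theorem v_mem_of_mem_z7 : ∀ k ∈ z7W, v k ∈ Hs := by
  have h : ∀ k ∈ z7W, [k] ∈ sw := by decide
  exact fun k hk => v_mem_of_mem_sw k (h k hk)

theorem xs_sq (k : ℕ) : xs k * xs k = 1 := by
  by_cases h : v k ∈ Hs
  · apply Subtype.ext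
    rw [Subgroup.coe_mul, xs_val h, hsqv]
    rfl
  · unfold xs
    rw [dif_neg h, one_mul]

theorem xs_braid (j k : ℕ) (hj : [j] ∈ sw) (hk : [k] ∈ sw)
    (h : Cfsg.Spor.coxLabel Fi22.edges (gen j) (gen k) = 3) : (xs j * xs k) ^ 3 = 1 := by
  apply Subtype.ext
  rw [Subgroup.coe_pow, Subgroup.coe_mul, xs_val (v_mem_of_mem_sw j hj), xs_val (v_mem_of_mem_sw k hk)]
  exact hbraid (gen j) (gen k) h

/-- the generator `c` lies in the commutator subgroup of the subgroup -/
theorem c_mem_commutator : xs 2 ∈ commutator ↥Hs := by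
  set π := (Abelianization.of : ↥Hs →* Abelianization ↥Hs) with hπ
  set z := π (xs 2) with hz
  have step : ∀ j k : ℕ, [j] ∈ sw → [k] ∈ sw →
      Cfsg.Spor.coxLabel Fi22.edges (gen j) (gen k) = 3 → π (xs j) = z → π (xs k) = z := by
    intro j k hj hk h hjz
    rw [← hjz]
    exact (map_eq_of_braid π _ _ (xs_sq j) (xs_sq k) (xs_braid j k hj hk h)).symm
  have h3 : π (xs 3) = z := step 2 3 (by decide) (by decide) (by decide) rfl
  have h4 : π (xs 4) = z := step 3 4 (by decide) (by decide) (by decide) h3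
  have h5 : π (xs 5) = z := step 4 5 (by decide) (by decide) (by decide) h4
  have h6 : π (xs 6) = z := step 5 6 (by decide) (by decide) (by decide) h5
  have h7 : π (xs 7) = z := step 3 7 (by decide) (by decide) (by decide) h3
  have h8 : π (xs 8) = z := step 7 8 (by decide) (by decide) (by decide) h7
  have hall : ∀ k ∈ z7W, π (xs k) = z := by
    have hk : ∀ k ∈ z7W, k = 2 ∨ k = 3 ∨ k = 4 ∨ k = 5 ∨ k = 6 ∨ k = 7 ∨ k = 8 := by decide
    intro k hkz
    rcases hk k hkz with rfl | rfl | rfl | rfl | rfl | rfl | rfl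
    · rfl
    · exact h3
    · exact h4
    · exact h5
    · exact h6
    · exact h7
    · exact h8
  have hz2 : z * z = 1 := by rw [hz, ← map_mul, xs_sq, map_one]
  have hone : wprod xs z7W = 1 := by
    apply Subtype.ext
    rw [xs_wprod _ v_mem_of_mem_z7, z7_eq_one]
    rfl
  have h63 : z ^ 63 = 1 := by
    have h1 := congrArg π hone
    rw [map_one] at h1
    unfold wprod at h1
    rw [map_list_prod, List.map_map, prod_map_const (π ∘ xs) z z7W hall] at h1
    exact h1
  have hz1 : z = 1 := by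
    calc z = (z * z) ^ 31 * z := by rw [hz2, one_pow, one_mul]
      _ = z ^ 63 := by rw [← pow_two, ← pow_mul, ← pow_succ]
      _ = 1 := h63
  rw [← Abelianization.ker_of, MonoidHom.mem_ker]
  exact hz1

/-- the commutator subgroup of the subgroup, inside the group -/
noncomputable def Dc : Subgroup (PresentedGroup R) := (commutator ↥Hs).map Hs.subtype

theorem conj_mem_Dc (l : List ℕ) : wprod v (conjW l) ∈ Dc := by
  have hh := expand_mem l
  have h1 : (⟨wprod v (expandW l), hh⟩ : ↥Hs) * xs 2 * (⟨wprod v (expandW l), hh⟩ : ↥Hs)⁻¹ ∈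
      commutator ↥Hs :=
    (inferInstance : (commutator ↥Hs).Normal).conj_mem _ c_mem_commutator _
  refine ⟨_, h1, ?_⟩
  unfold conjW
  rw [wprod_append, wprod_cons, wprod_reverse_of_invol v hsqv]
  show wprod v (expandW l) * ((xs 2 : ↥Hs) : PresentedGroup R) * (wprod v (expandW l))⁻¹ = _
  rw [xs_val v2_mem, mul_assoc]

theorem flatten_mem_Dc (ls : List (List ℕ)) : wprod v ((ls.map conjW).flatten) ∈ Dc := by
  induction ls with
  | nil => exact Subgroup.one_mem _
  | cons l ls ih =>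
    rw [List.map_cons, List.flatten_cons, wprod_append]
    exact Subgroup.mul_mem _ (conj_mem_Dc l) ih

/-- the central involution lies in the commutator subgroup of the subgroup -/
theorem a_mem_commutator : (⟨v 0, v0_mem⟩ : ↥Hs) ∈ commutator ↥Hs := by
  have h1 : v 0 ∈ Dc := by
    rw [v0_eq_line, hlineW]
    exact flatten_mem_Dc hwL
  obtain ⟨y, hy, e⟩ := h1
  have : y = ⟨v 0, v0_mem⟩ := Subtype.ext e
  rw [← this]
  exact hy

theorem a_mem_center : (⟨v 0, v0_mem⟩ : ↥Hs) ∈ Subgroup.center ↥Hs := by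
  rw [Subgroup.mem_center_iff]
  intro g
  exact Subtype.ext (central g g.2)

theorem a_ne_one : (⟨v 0, v0_mem⟩ : ↥Hs) ≠ 1 := fun h => v0_ne_one (congrArg Subtype.val h)

/-- the subgroup is a double cover of the projective unitary group that does not split -/
theorem double_cover : Cfsg.IsNonsplitDoubleCover ↥Hs (Cfsg.PSU 6 K 2) := by
  obtain ⟨Θ, hΘ⟩ := exists_theta
  have hsurj := theta_surjective Θ hΘ
  have hker : Nat.card Θ.ker = 2 := by
    have h1 := Subgroup.card_eq_card_quotient_mul_card_subgroup Θ.ker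
    have h2 : Nat.card (↥Hs ⧸ Θ.ker) = Nat.card (Cfsg.PSU 6 K 2) :=
      Nat.card_congr (QuotientGroup.quotientKerEquivOfSurjective Θ hsurj).toEquiv
    rw [h2, card_PSU, card_Hs] at h1
    generalize Nat.card ↥Θ.ker = n at h1 ⊢
    omega
  have hle1 : Θ.ker ≤ Subgroup.center ↥Hs := le_center_of_normal_card_two Θ.ker hker
  have hle2 : Subgroup.center ↥Hs ≤ Θ.ker := by
    intro z hz
    rw [MonoidHom.mem_ker]
    have h1 : Θ z ∈ Subgroup.center (Cfsg.PSU 6 K 2) := by
      rw [Subgroup.mem_center_iff]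
      intro q
      obtain ⟨h, rfl⟩ := hsurj q
      rw [← map_mul, ← map_mul, Subgroup.mem_center_iff.mp hz h]
    rw [center_PSU] at h1
    exact Subgroup.mem_bot.mp h1
  have hcen : Subgroup.center ↥Hs = Θ.ker := le_antisymm hle2 hle1
  have hc2 : Nat.card (Subgroup.center ↥Hs) = 2 := by rw [hcen]; exact hker
  have hz : Subgroup.center ↥Hs ≤ commutator ↥Hs := by
    intro x hx
    obtain ⟨y, hy, hyu⟩ := (Nat.card_eq_two_iff' (1 : Subgroup.center ↥Hs)).mp hc2
    by_cases hx1 : x = 1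
    · rw [hx1]; exact Subgroup.one_mem _
    · have e1 : (⟨x, hx⟩ : Subgroup.center ↥Hs) = y :=
        hyu _ (fun h => hx1 (congrArg Subtype.val h))
      have e2 : (⟨⟨v 0, v0_mem⟩, a_mem_center⟩ : Subgroup.center ↥Hs) = y :=
        hyu _ (fun h => a_ne_one (congrArg Subtype.val h))
      have : x = ⟨v 0, v0_mem⟩ := congrArg Subtype.val (e1.trans e2.symm)
      rw [this]
      exact a_mem_commutator
  refine ⟨hc2, ⟨(QuotientGroup.quotientMulEquivOfEq hcen).trans
    (QuotientGroup.quotientKerEquivOfSurjective Θ hsurj)⟩, ?_⟩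
  exact no_complement_of_center_le_commutator hc2 hz

end Cfsg.Agent.Lib.Helper12.U62
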