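import Cfsg.Agent.Lib.Helper12.U62.F4Tup
import Cfsg.Agent.Lib.Helper12.U62.Gen
import Cfsg.Agent.S0779
import Cfsg.Agent.S0780
import Cfsg.Agent.S0280
import Cfsg.Agent.S0283

/-!
The special unitary group of dimension six over the field with four elements: transvections, generation,
order and centre of the quotient by the centre (helper12).
-/

set_option autoImplicit false

namespace Cfsg.Agent.Lib.Helper12.U62

open Matrix Cfsg.Agent.Lib.Lead.F4

/-- the special unitary group -/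
abbrev SU6 : Subgroup (Matrix.SpecialLinearGroup (Fin 6) K) := Cfsg.SU 6 K 2

/-- the matrix of an element -/
def mat (A : ↥SU6) : Matrix (Fin 6) (Fin 6) K :=
  ((A : Matrix.SpecialLinearGroup (Fin 6) K) : Matrix (Fin 6) (Fin 6) K)

theorem mat_injective : Function.Injective mat := fun A B h =>
  Subtype.ext (Subtype.ext h)

theorem mat_one : mat 1 = 1 := rfl

theorem mat_mul (A B : ↥SU6) : mat (A * B) = mat A * mat B := rfl

theorem card_K : Fintype.card K = 2 ^ 2 := by decide

theorem neg_one_K : (-1 : K) = 1 := by decide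

theorem mem_SU6_iff (A : Matrix.SpecialLinearGroup (Fin 6) K) :
    A ∈ SU6 ↔ ∀ u v : Fin 6 → K, Cfsg.hermForm 6 K 2
      ((A : Matrix (Fin 6) (Fin 6) K) *ᵥ u) ((A : Matrix (Fin 6) (Fin 6) K) *ᵥ v) =
      Cfsg.hermForm 6 K 2 u v := Iff.rfl

theorem mat_pres (A : ↥SU6) (u v : Fin 6 → K) :
    Cfsg.hermForm 6 K 2 (mat A *ᵥ u) (mat A *ᵥ v) = Cfsg.hermForm 6 K 2 u v :=
  (mem_SU6_iff A.1).mp A.2 u v

/-- conjugating a transvection by a matrix preserving the form -/
theorem transv_mul (M : Matrix (Fin 6) (Fin 6) K)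
    (hM : ∀ u v : Fin 6 → K, Cfsg.hermForm 6 K 2 (M *ᵥ u) (M *ᵥ v) = Cfsg.hermForm 6 K 2 u v)
    (v : Fin 6 → K) (c : K) :
    M * Cfsg.unitaryTransvection 6 2 v c = Cfsg.unitaryTransvection 6 2 (M *ᵥ v) c * M := by
  rw [Matrix.ext_iff_mulVec]
  intro x
  rw [← Matrix.mulVec_mulVec, ← Matrix.mulVec_mulVec, transvection_mulVec, transvection_mulVec, hM,
    Matrix.mulVec_add, Matrix.mulVec_smul]

theorem transv_det (v : Fin 6 → K) (hv : Cfsg.hermForm 6 K 2 v v = 0) :
    (Cfsg.unitaryTransvection 6 2 v 1).det = 1 := by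
  unfold Cfsg.unitaryTransvection
  rw [one_smul, Matrix.vecMulVec_eq Unit, Matrix.det_one_add_replicateCol_mul_replicateRow]
  have : (fun j => v j ^ 2) ⬝ᵥ v = Cfsg.hermForm 6 K 2 v v := by
    unfold Cfsg.hermForm dotProduct
    apply Finset.sum_congr rfl
    intro i _
    rw [mul_comm]
  rw [this, hv, add_zero]

theorem transv_pres (v : Fin 6 → K) (hv0 : v ≠ 0) (hv : Cfsg.hermForm 6 K 2 v v = 0)
    (x y : Fin 6 → K) :
    Cfsg.hermForm 6 K 2 (Cfsg.unitaryTransvection 6 2 v 1 *ᵥ x)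
      (Cfsg.unitaryTransvection 6 2 v 1 *ᵥ y) = Cfsg.hermForm 6 K 2 x y := by
  have h := (Cfsg.Agent.S0779.result (F := K) (q := 2) card_K 6 v hv0 hv 1).mpr
    (Or.inr (by rw [pow_one, neg_one_K]))
  exact h x y

/-- the transvection of an isotropic vector as an element of the group -/
theorem exists_tv (v : Fin 6 → K) (hv0 : v ≠ 0) (hv : Cfsg.hermForm 6 K 2 v v = 0) :
    ∃ B : ↥SU6, mat B = Cfsg.unitaryTransvection 6 2 v 1 :=
  ⟨⟨⟨Cfsg.unitaryTransvection 6 2 v 1, transv_det v hv⟩,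
    (mem_SU6_iff _).mpr (fun x y => transv_pres v hv0 hv x y)⟩, rfl⟩

/-- the elements of the generating set -/
theorem gen_cases (B : ↥SU6) (w : Fin 6 → K) (c : K) (hw : Cfsg.hermForm 6 K 2 w w = 0)
    (hB : mat B = Cfsg.unitaryTransvection 6 2 w c) :
    B = 1 ∨ ∃ a : T6, a ≠ 0 ∧ hT a a = 0 ∧
      mat B = Cfsg.unitaryTransvection 6 2 (vec6 (norm6 a)) 1 := by
  by_cases hw0 : w = 0
  · left
    apply mat_injective
    rw [hB, hw0, mat_one]
    unfold Cfsg.unitaryTransvection
    ext i j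
    simp [Matrix.vecMulVec_apply]
  by_cases hc : c = 0
  · left
    apply mat_injective
    rw [hB, hc, mat_one]
    unfold Cfsg.unitaryTransvection
    rw [zero_smul, add_zero]
  right
  have hpres : ∀ x y : Fin 6 → K, Cfsg.hermForm 6 K 2 ((Cfsg.unitaryTransvection 6 2 w c).mulVec x)
      ((Cfsg.unitaryTransvection 6 2 w c).mulVec y) = Cfsg.hermForm 6 K 2 x y := by
    intro x y
    rw [← hB]
    exact mat_pres B x y
  have hc1 : c = 1 := by
    rcases (Cfsg.Agent.S0779.result (F := K) (q := 2) card_K 6 w hw0 hw c).mp hpres with h | h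
    · exact absurd h hc
    · rw [show (2 - 1 : ℕ) = 1 from rfl, pow_one, neg_one_K] at h
      exact h
  have ha0 : tup6 w ≠ 0 := by
    intro h
    apply hw0
    rw [← vec6_tup6 w, h, vec6_zero]
  refine ⟨tup6 w, ha0, ?_, ?_⟩
  · rw [← herm_vec6, vec6_tup6]; exact hw
  · rw [hB, hc1]
    have h1 := eq_lead_smul_norm (tup6 w) ha0
    have h2 : w = lead6 (tup6 w) • vec6 (norm6 (tup6 w)) := by
      rw [← vec6_smul, ← h1, vec6_tup6]
    conv_lhs => rw [h2]
    exact transvection_smul _ _ (lead6_ne_zero _ ha0)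

/-- the group is generated by the transvections of normalised isotropic vectors -/
theorem SU6_closure : Subgroup.closure {B : ↥SU6 | ∃ a : T6, a ≠ 0 ∧ hT a a = 0 ∧
    mat B = Cfsg.unitaryTransvection 6 2 (vec6 (norm6 a)) 1} = ⊤ := by
  have h := Cfsg.Agent.S0780.result (F := K) (q := 2) card_K 6 (by decide) (by decide)
  rw [eq_top_iff, ← h, Subgroup.closure_le]
  rintro B ⟨w, c, hw, hB⟩
  rcases gen_cases B w c hw hB with h1 | h1
  · rw [h1]; exact Subgroup.one_mem _
  · exact Subgroup.subset_closure h1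

theorem card_PSU : Nat.card (Cfsg.PSU 6 K 2) = 9196830720 := by
  have h := Cfsg.Agent.S0280.result (F := K) (q := 2) card_K 6 (by decide)
  norm_num [Finset.prod_range_succ] at h
  omega

theorem center_PSU : Subgroup.center (Cfsg.PSU 6 K 2) = ⊥ := by
  have hs : IsSimpleGroup (Cfsg.PSU 6 K 2) := Cfsg.Agent.S0283.result (F := K) (q := 2) card_K 6
    (by decide) (by decide)
  have hfin : Finite (Cfsg.PSU 6 K 2) := Nat.finite_of_card_ne_zero (by rw [card_PSU]; decide)
  apply center_eq_bot_of_simple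
  rw [card_PSU]
  norm_num

end Cfsg.Agent.Lib.Helper12.U62
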