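import Cfsg.Agent.Lib.Helper12.U62.Main
import Cfsg.Agent.Lib.Helper12.U62.ChkT
import Cfsg.Agent.Lib.Helper12.Ord.ThreeTransp
import Cfsg.Prelude.Def_Sporadic

/-!
The presented group Fi22 as a group generated by a class of 3510 3-transpositions whose centralisers
are double covers of `PSU 6 K 2` that are not split (helper12).
-/

set_option autoImplicit false

namespace Cfsg.Agent.Lib.Helper12.U62

open Matrix Cfsg.Spor Cfsg.Agent.Lib.Helper12.TC Cfsg.Agent.Lib.Helper12.TC.Fi22o3510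
  Cfsg.Agent.Lib.Helper12.TC.Fi22Pres Cfsg.Agent.Lib.Helper12.Ord
  Cfsg.Agent.Lib.Helper12.Ord.Fi22Simple

theorem rho_v1 : rho (v 1) ⟨0, hN0⟩ = ⟨1, by decide⟩ := by
  apply Fin.ext
  rw [rho_v 1 (by decide)]
  exact Nat.eq_of_beq_eq_true hpt1

theorem rho_u₂ : rho (wprod v u₂) ⟨0, hN0⟩ = ⟨2817, by decide⟩ := by
  apply Fin.ext
  rw [Fn.rho_word v rho rho_v u₂ (by decide)]
  exact Nat.eq_of_beq_eq_true hpt2

theorem center_G_eq_bot : Subgroup.center (PresentedGroup R) = ⊥ := by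
  have hs : IsSimpleGroup (PresentedGroup R) := isSimpleGroup
  apply center_eq_bot_of_simple
  have h2 : Nat.card (PresentedGroup R) = 64561751654400 := Fi22Order.card_eq
  rw [h2]
  norm_num

theorem centralizer_a : Subgroup.centralizer {v 0} = Hs := by
  have hle : Hs ≤ Subgroup.centralizer {v 0} := by
    intro h hh
    rw [Subgroup.mem_centralizer_singleton_iff]
    exact central h hh
  by_contra hne
  have hlt : Hs < Subgroup.centralizer {v 0} := lt_of_le_of_ne hle (fun h => hne h.symm)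
  have htop := isCoatom_H.2 _ hlt
  have hcen : v 0 ∈ Subgroup.center (PresentedGroup R) := by
    rw [Subgroup.mem_center_iff]
    intro g
    have : g ∈ Subgroup.centralizer {v 0} := by rw [htop]; trivial
    exact Subgroup.mem_centralizer_singleton_iff.mp this
  rw [center_G_eq_bot, Subgroup.mem_bot] at hcen
  exact v0_ne_one hcen

theorem h₁ : (v 0 * (v 1 * v 0 * (v 1)⁻¹)) ^ 3 = 1 := by
  have h1 := Fn.rho_wprod_eq rho TT v 9 rho_v (w₁ := w3a) (w₂ := []) (by decide) (by decide) h3t0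
  have h2 := Fi22Order.rho_injective h1
  rw [wprod_nil] at h2
  have hinv : (v 1)⁻¹ = v 1 := inv_eq_of_mul_eq_one_left (hsqv 1)
  rw [hinv, ← h2]
  simp only [w3a, wprod, List.map, List.prod_cons, List.prod_nil, mul_one, pow_succ, pow_zero, one_mul,
    mul_assoc]

theorem h₂ : (v 0 * (wprod v u₂ * v 0 * (wprod v u₂)⁻¹)) ^ 2 = 1 := by
  have h1 := Fn.rho_wprod_eq rho TT v 9 rho_v (w₁ := w3b) (w₂ := []) (by decide) (by decide) h3t1
  have h2 := Fi22Order.rho_injective h1
  rw [wprod_nil] at h2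
  have hW : wprod v (0 :: (u₂ ++ 0 :: u₂.reverse)) =
      v 0 * (wprod v u₂ * v 0 * (wprod v u₂)⁻¹) := by
    rw [wprod_cons, wprod_append, wprod_cons, wprod_reverse_of_invol v hsqv, mul_assoc]
  rw [hw3b, wprod_append, hW] at h2
  rw [pow_two]
  exact h2

theorem hcover : ∀ i : Fin cN, i = ⟨0, hN0⟩ ∨ (∃ h ∈ Hs, rho h (rho (v 1) ⟨0, hN0⟩) = i) ∨
    (∃ h ∈ Hs, rho h (rho (wprod v u₂) ⟨0, hN0⟩) = i) := by
  obtain ⟨Φ, hΦ⟩ := rho_equiv
  have horb1 := Fn.orbit_image Hs v rho rho_v hH Φ hN0 hΦ hsub (lo := 1) (hi := 2817)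
    (by decide) (by decide) horbi0 horbc0
  have horb2 := Fn.orbit_image Hs v rho rho_v hH Φ hN0 hΦ hsub (lo := 2817) (hi := 3510)
    (by decide) (by decide) horbi1 horbc1
  have hact : ∀ (γ : PresentedGroup R) (q : PresentedGroup R ⧸ Hs), Φ (γ • q) = rho γ (Φ q) := by
    intro γ q
    induction q using QuotientGroup.induction_on with
    | H δ =>
      have : γ • (δ : PresentedGroup R ⧸ Hs) = ((γ * δ : PresentedGroup R) : PresentedGroup R ⧸ Hs) := rfl
      rw [this, hΦ, hΦ, map_mul, Equiv.Perm.mul_apply]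
  have hpick : ∀ (b : Fin cN) (S : Set (Fin cN)), Φ '' MulAction.orbit Hs (Φ.symm b) = S →
      ∀ i ∈ S, ∃ h ∈ Hs, rho h b = i := by
    intro b S hS i hi
    rw [← hS] at hi
    obtain ⟨q, ⟨⟨h, hh⟩, rfl⟩, rfl⟩ := hi
    refine ⟨h, hh, ?_⟩
    show rho h b = Φ (h • Φ.symm b)
    rw [hact, Equiv.apply_symm_apply]
  intro i
  rcases Nat.lt_or_ge i.val 1 with h0 | h0
  · left
    apply Fin.ext
    show i.val = 0
    omega
  · rcases Nat.lt_or_ge i.val 2817 with h1 | h1
    · right; left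
      rw [rho_v1]
      exact hpick _ _ horb1 i ⟨h0, h1⟩
    · right; right
      rw [rho_u₂]
      exact hpick _ _ horb2 i ⟨h1, i.isLt⟩

theorem isThreeTranspositionClass : Cfsg.IsThreeTranspositionClass (conjugatesOf (v 0)) := by
  obtain ⟨Φ, hΦ⟩ := rho_equiv
  exact isThreeTranspositionClass_of_data Hs rho hN0 Φ hΦ (v 0) (hsqv 0) v0_ne_one central
    normalClosure_eq_top (v 1) (wprod v u₂) hcover 3 2 (Or.inr rfl) (Or.inl rfl) h₁ h₂

theorem card_class : Nat.card (conjugatesOf (v 0)) = 3510 := by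
  rw [card_conjugatesOf_eq_index, centralizer_a]
  exact rho_index

/-- the centralisers of the elements of the class -/
theorem centralizer_cover (d : PresentedGroup R) (hd : d ∈ conjugatesOf (v 0)) :
    Cfsg.IsNonsplitDoubleCover ↥(Subgroup.centralizer ({d} : Set (PresentedGroup R)))
      (Cfsg.PSU 6 K 2) := by
  obtain ⟨x, rfl⟩ := isConj_iff.mp hd
  have h1 : Cfsg.IsNonsplitDoubleCover ↥(Subgroup.centralizer ({v 0} : Set (PresentedGroup R)))
      (Cfsg.PSU 6 K 2) := by
    rw [centralizer_a]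
    exact double_cover
  exact isNonsplitDoubleCover_of_mulEquiv (centralizerConjEquiv (v 0) x) h1

end Cfsg.Agent.Lib.Helper12.U62
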